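import Mathlib
import Cfsg.Agent.Lib.Helper12.AOStmt

/-!
S4068 piece ARI2 (helper21, second seat): a nonzero natural number with at most two prime
divisors is `p ^ a * q ^ b`.
-/

set_option autoImplicit false

namespace Cfsg.Agent.Lib.Helper21.AOARI2

open Cfsg.Agent.Lib.Helper12

theorem main : AOStmt.Ari2 := by
  intro n hn h
  have hprod : n = ∏ p ∈ n.primeFactors, p ^ n.factorization p := by
    conv_lhs => rw [← Nat.prod_factorization_pow_eq_self hn]
    rfl
  rcases Nat.lt_or_ge n.primeFactors.card 2 with h2 | h2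
  · rcases Nat.lt_or_ge n.primeFactors.card 1 with h1 | h1
    · have h0 : n.primeFactors = ∅ := Finset.card_eq_zero.mp (by omega)
      rw [h0] at hprod
      exact ⟨2, 2, 0, 0, Nat.prime_two, Nat.prime_two, by simpa using hprod⟩
    · obtain ⟨p, hp⟩ := Finset.card_eq_one.mp (by omega : n.primeFactors.card = 1)
      have hpp : p.Prime := Nat.prime_of_mem_primeFactors (by rw [hp]; simp)
      rw [hp] at hprod
      exact ⟨p, 2, n.factorization p, 0, hpp, Nat.prime_two, by simpa using hprod⟩
  · obtain ⟨p, q, hpq, hs⟩ := Finset.card_eq_two.mp (by omega : n.primeFactors.card = 2)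
    have hpp : p.Prime := Nat.prime_of_mem_primeFactors (by rw [hs]; simp)
    have hqp : q.Prime := Nat.prime_of_mem_primeFactors (by rw [hs]; simp)
    rw [hs, Finset.prod_pair hpq] at hprod
    exact ⟨p, q, n.factorization p, n.factorization q, hpp, hqp, hprod⟩

end Cfsg.Agent.Lib.Helper21.AOARI2
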