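import Mathlib
import Cfsg.Agent.Lib.Helper12.AOStmt

/-!
S4068 piece ARIQ1 (helper21, second seat): if `2 ^ f * (2 ^ f - 1) * (2 ^ f + 1)` has exactly
three prime divisors (`f ≥ 2`), then `2 ^ f - 1` and `2 ^ f + 1` are prime powers.
-/

set_option autoImplicit false

namespace Cfsg.Agent.Lib.Helper21.AOARIQ1

open Cfsg.Agent.Lib.Helper12

theorem main : AOStmt.AriQ1 := by
  intro f hf h
  have h4 : 4 ≤ 2 ^ f := by
    calc 4 = 2 ^ 2 := by norm_num
      _ ≤ 2 ^ f := Nat.pow_le_pow_right (by norm_num) hf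
  have hAB : Nat.Coprime (2 ^ f) (2 ^ f - 1) := by
    have : Nat.Coprime (2 ^ f - 1) (2 ^ f - 1 + 1) := by simp
    rw [Nat.sub_add_cancel (by omega)] at this
    exact this.symm
  have hAC : Nat.Coprime (2 ^ f) (2 ^ f + 1) := by simp
  have hodd : ¬ 2 ∣ 2 ^ f - 1 := by
    have he : 2 ∣ 2 ^ f := dvd_pow_self 2 (by omega)
    omega
  have hBC : Nat.Coprime (2 ^ f - 1) (2 ^ f + 1) := by
    have h2 : 2 ^ f + 1 = (2 ^ f - 1) + 2 := by omega
    rw [h2, Nat.coprime_self_add_right]
    exact ((Nat.Prime.coprime_iff_not_dvd Nat.prime_two).mpr hodd).symm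
  have hABC : Nat.Coprime (2 ^ f * (2 ^ f - 1)) (2 ^ f + 1) :=
    Nat.Coprime.mul_left hAC hBC
  rw [Nat.Coprime.primeFactors_mul hABC, Nat.Coprime.primeFactors_mul hAB,
    Finset.card_union_of_disjoint, Finset.card_union_of_disjoint] at h
  · have hA : (2 ^ f).primeFactors.card = 1 := by
      rw [Nat.primeFactors_prime_pow (by omega) Nat.prime_two]; simp
    have hB : 1 ≤ (2 ^ f - 1).primeFactors.card := by
      rw [Nat.succ_le_iff, Finset.card_pos, Nat.nonempty_primeFactors]; omega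
    have hC : 1 ≤ (2 ^ f + 1).primeFactors.card := by
      rw [Nat.succ_le_iff, Finset.card_pos, Nat.nonempty_primeFactors]; omega
    exact ⟨isPrimePow_iff_card_primeFactors_eq_one.mpr (by omega),
      isPrimePow_iff_card_primeFactors_eq_one.mpr (by omega)⟩
  · exact hAB.disjoint_primeFactors
  · rw [← Nat.Coprime.primeFactors_mul hAB]
    exact hABC.disjoint_primeFactors

end Cfsg.Agent.Lib.Helper21.AOARIQ1
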