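import Mathlib
import Cfsg.Agent.Lib.Helper25.BSWSpec

/-!
# S3282: basic consequences of `BSWSpec.Basic` used by the group-theoretic pieces
-/

set_option autoImplicit false
set_option maxHeartbeats 1000000

namespace Cfsg.Agent.Lib.Helper21.BSWBase

open Cfsg Cfsg.Agent.Lib.Helper25.BSWSpec

universe u

variable {G : Type u} [Group G]

theorem mem_cent {x y : G} :
    x ∈ Subgroup.centralizer ({y} : Set G) ↔ x * y = y * x := by
  rw [Subgroup.mem_centralizer_iff]
  constructor
  · intro h; exact (h y rfl).symm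
  · intro h z hz
    rw [Set.mem_singleton_iff] at hz
    rw [hz]; exact h.symm

theorem inv_eq_self_of_orderOf_two {w : G} (hw : orderOf w = 2) : w⁻¹ = w := by
  have h : w ^ 2 = 1 := by rw [← hw]; exact pow_orderOf_eq_one w
  rw [inv_eq_iff_mul_eq_one, ← pow_two]
  exact h

theorem ne_one_of_orderOf_two {w : G} (hw : orderOf w = 2) : w ≠ 1 := by
  rintro rfl
  rw [orderOf_one] at hw
  omega

theorem conj_comm {g a b : G} (h : a * b = b * a) :
    (g * a * g⁻¹) * (g * b * g⁻¹) = (g * b * g⁻¹) * (g * a * g⁻¹) := by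
  calc (g * a * g⁻¹) * (g * b * g⁻¹) = g * (a * b) * g⁻¹ := by group
    _ = g * (b * a) * g⁻¹ := by rw [h]
    _ = (g * b * g⁻¹) * (g * a * g⁻¹) := by group

theorem conj_ne_one {g a : G} (h : a ≠ 1) : g * a * g⁻¹ ≠ 1 := by
  intro h'
  apply h
  have : a = g⁻¹ * (g * a * g⁻¹) * g := by group
  rw [this, h']; group

theorem notConjK_ne_one {K : Subgroup G} {z : G} (hz : NotConjK K z) : z ≠ 1 := by
  rintro rfl
  exact hz 1 (by simp)

theorem notConjK_conj {K : Subgroup G} {z : G} (hz : NotConjK K z) (g : G) :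
    NotConjK K (g * z * g⁻¹) := by
  intro g'
  have : g' * (g * z * g⁻¹) * g'⁻¹ = (g' * g) * z * (g' * g)⁻¹ := by group
  rw [this]
  exact hz _

variable {t s : G} {K : Subgroup G} {k : ℕ}

/-- (F1) every element of `C(t)` is conjugate into `K` -/
theorem conjK_of_comm_t (hB : Basic t K s k) (h : G) (hh : h * t = t * h) :
    ∃ g : G, g * h * g⁻¹ ∈ K := by
  rcases (hB.cent_t h).mp hh with hK | ⟨x, hx, rfl⟩
  · exact ⟨1, by simpa using hK⟩
  · obtain ⟨c, hc⟩ := isConj_iff.mp (hB.hconj (x * s) t (hB.invol_coset x hx) hB.ht)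
    exact ⟨c, by rw [hc]; exact hB.htK⟩

/-- anything commuting with an involution is conjugate into `K` -/
theorem conjK_of_comm_invol (hB : Basic t K s k) (c w : G) (hw : orderOf w = 2)
    (hc : c * w = w * c) : ∃ g : G, g * c * g⁻¹ ∈ K := by
  obtain ⟨g, hg⟩ := isConj_iff.mp (hB.hconj w t hw hB.ht)
  have h1 : (g * c * g⁻¹) * t = t * (g * c * g⁻¹) := by
    rw [← hg]; exact conj_comm hc
  obtain ⟨g', hg'⟩ := conjK_of_comm_t hB _ h1
  refine ⟨g' * g, ?_⟩
  have : g' * g * c * (g' * g)⁻¹ = g' * (g * c * g⁻¹) * g'⁻¹ := by group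
  rw [this]; exact hg'

/-- (F2) the centralizer of a nonidentity element of `K` lies in `C(t)` -/
theorem comm_t_of_comm_K (hB : Basic t K s k) {x : G} (hx : x ∈ K) (hx1 : x ≠ 1) {c : G}
    (hc : c * x = x * c) : c * t = t * c := by
  apply hB.ti x hx hx1 c
  have : c * x * c⁻¹ = x := by rw [hc]; group
  rw [this]; exact hx

/-- anything commuting with a nonidentity element which commutes with an involution is conjugate
into `K` -/
theorem conjK_of_comm_of_comm_invol (hB : Basic t K s k) (c x w : G) (hw : orderOf w = 2)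
    (hx1 : x ≠ 1) (hxw : x * w = w * x) (hcx : c * x = x * c) : ∃ g : G, g * c * g⁻¹ ∈ K := by
  obtain ⟨g, hg⟩ := isConj_iff.mp (hB.hconj w t hw hB.ht)
  have h1 : (g * x * g⁻¹) * t = t * (g * x * g⁻¹) := by
    rw [← hg]; exact conj_comm hxw
  have h2 : (g * c * g⁻¹) * (g * x * g⁻¹) = (g * x * g⁻¹) * (g * c * g⁻¹) := conj_comm hcx
  have h3 : g * x * g⁻¹ ≠ 1 := conj_ne_one hx1
  have key : ∃ g' : G, g' * (g * c * g⁻¹) * g'⁻¹ ∈ K := by
    rcases (hB.cent_t _).mp h1 with hK | ⟨a, ha, hxa⟩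
    · exact conjK_of_comm_t hB _ (comm_t_of_comm_K hB hK h3 h2)
    · have hinv : orderOf (g * x * g⁻¹) = 2 := by rw [hxa]; exact hB.invol_coset a ha
      exact conjK_of_comm_invol hB _ _ hinv h2
  obtain ⟨g', hg'⟩ := key
  refine ⟨g' * g, ?_⟩
  have : g' * g * c * (g' * g)⁻¹ = g' * (g * c * g⁻¹) * g'⁻¹ := by group
  rw [this]; exact hg'

/-- if `z` is not conjugate into `K`, nonidentity elements of `C(z)` commute with no involution -/
theorem not_comm_invol (hB : Basic t K s k) {z : G} (hz : NotConjK K z) {x w : G}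
    (hx : x * z = z * x) (hx1 : x ≠ 1) (hw : orderOf w = 2) : x * w ≠ w * x := by
  intro hxw
  obtain ⟨g, hg⟩ := conjK_of_comm_of_comm_invol hB z x w hw hx1 hxw hx.symm
  exact hz g hg

/-- if `z` is not conjugate into `K`, neither are the nonidentity elements of `C(z)` -/
theorem notConjK_of_comm (hB : Basic t K s k) {z : G} (hz : NotConjK K z) {x : G}
    (hx : x * z = z * x) (hx1 : x ≠ 1) : NotConjK K x := by
  intro g hg
  have h2 : (g * z * g⁻¹) * (g * x * g⁻¹) = (g * x * g⁻¹) * (g * z * g⁻¹) := conj_comm hx.symm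
  have h3 := comm_t_of_comm_K hB hg (conj_ne_one hx1) h2
  obtain ⟨g', hg'⟩ := conjK_of_comm_t hB _ h3
  exact notConjK_conj hz g g' hg'

end Cfsg.Agent.Lib.Helper21.BSWBase
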