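import Mathlib
import Cfsg.Agent.Lib.Helper25.BSWSpec

/-!
# S3282 / piece PClosed: `p`-closure of a subgroup whose `p'`-elements have self-normalizing TI
centralizers (Burnside transfer + induction)
-/

set_option autoImplicit false
set_option maxHeartbeats 1000000

namespace Cfsg.Agent.Lib.Helper21.BSWPClosed

universe u

/-- a nontrivial `r`-subgroup has a nontrivial element commuting with all of it -/
theorem exists_central {H : Type*} [Group H] [Finite H] {r : ℕ} [Fact r.Prime] (R : Subgroup H)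
    (hR : IsPGroup r R) (hne : R ≠ ⊥) : ∃ z ∈ R, z ≠ 1 ∧ ∀ x ∈ R, x * z = z * x := by
  have : Nontrivial R := (Subgroup.nontrivial_iff_ne_bot R).mpr hne
  have := hR.center_nontrivial
  obtain ⟨z, hz⟩ := exists_ne (1 : Subgroup.center R)
  refine ⟨((z : R) : H), (z : R).2, ?_, ?_⟩
  · intro h
    apply hz
    apply Subtype.ext
    apply Subtype.ext
    exact h
  · intro x hx
    have := Subgroup.mem_center_iff.mp z.2 ⟨x, hx⟩
    exact congrArg Subtype.val this

theorem main_aux {G : Type u} [Group G] [Finite G] (p : ℕ) (hp : p.Prime) :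
    ∀ n : ℕ, ∀ L : Subgroup G, Nat.card L = n →
    (∀ y ∈ L, y ≠ 1 → ¬ p ∣ orderOf y →
      (∀ w ∈ L, w ≠ 1 → w * y = y * w → ∀ x ∈ L, (x * w = w * x ↔ x * y = y * x)) ∧
      (∀ l ∈ L, (l * y * l⁻¹) * y = y * (l * y * l⁻¹) → l * y = y * l) ∧
      ¬ p ∣ Nat.card ↥(Subgroup.centralizer ({y} : Set G) ⊓ L)) →
    ∃ P : Subgroup G, P ≤ L ∧ IsPGroup p ↥P ∧
      ∀ x ∈ L, (∃ i : ℕ, orderOf x = p ^ i) → x ∈ P := by
  intro n
  induction n using Nat.strong_induction_on with
  | _ n ih =>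
  intro L hLn hL
  by_cases hA : ∀ y ∈ L, y ≠ 1 → p ∣ orderOf y
  · refine ⟨L, le_rfl, ?_, fun x hx _ => hx⟩
    intro g
    have hpos : orderOf (g : G) ≠ 0 := (orderOf_pos (g : G)).ne'
    obtain ⟨a, m, hm, hgm⟩ := Nat.exists_eq_pow_mul_and_not_dvd hpos p hp.ne_one
    refine ⟨a, ?_⟩
    by_contra hne
    have hne' : (g : G) ^ p ^ a ≠ 1 := by
      intro h
      apply hne
      apply Subtype.ext
      rw [Subgroup.coe_pow]; exact h
    have hord : orderOf ((g : G) ^ p ^ a) = m := by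
      rw [orderOf_pow_of_dvd (pow_ne_zero _ hp.ne_zero) (by rw [hgm]; exact dvd_mul_right _ _),
        hgm]
      exact Nat.mul_div_cancel_left m (pow_pos hp.pos a)
    have := hA _ (L.pow_mem g.2 _) hne'
    rw [hord] at this
    exact hm this
  · push Not at hA
    obtain ⟨y₀, hy₀L, hy₀1, hy₀p⟩ := hA
    have hord1 : orderOf y₀ ≠ 1 := fun h => hy₀1 (orderOf_eq_one_iff.mp h)
    obtain ⟨r, hr, hrdvd⟩ := Nat.exists_prime_and_dvd hord1
    have hrp : r ≠ p := fun h => hy₀p (h ▸ hrdvd)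
    obtain ⟨m, hm⟩ := hrdvd
    have hpos : orderOf y₀ ≠ 0 := (orderOf_pos y₀).ne'
    have hm0 : m ≠ 0 := by
      intro h0
      rw [h0, mul_zero] at hm
      exact hpos hm
    obtain ⟨y, hy⟩ : ∃ y : G, y = y₀ ^ m := ⟨_, rfl⟩
    have hyord : orderOf y = r := by
      rw [hy, orderOf_pow_of_dvd hm0 (by rw [hm]; exact dvd_mul_left _ _), hm]
      exact Nat.mul_div_cancel _ (Nat.pos_of_ne_zero hm0)
    have hyL : y ∈ L := by rw [hy]; exact L.pow_mem hy₀L _
    have hy1 : y ≠ 1 := by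
      intro h
      rw [h, orderOf_one] at hyord
      exact hr.ne_one hyord.symm
    have hyp : ¬ p ∣ orderOf y := by
      rw [hyord]
      intro h
      exact hrp ((Nat.prime_dvd_prime_iff_eq hp hr).mp h).symm
    obtain ⟨hα, hβ, -⟩ := hL y hyL hy1 hyp
    have : Fact r.Prime := ⟨hr⟩
    -- a Sylow `r`-subgroup of `L` containing `y`
    have hzp : IsPGroup r (Subgroup.zpowers (⟨y, hyL⟩ : ↥L)) := by
      apply IsPGroup.of_card (n := 1)
      rw [Nat.card_zpowers, Subgroup.orderOf_mk, hyord, pow_one]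
    obtain ⟨R, hR⟩ := hzp.exists_le_sylow
    have hyR : (⟨y, hyL⟩ : ↥L) ∈ (R : Subgroup ↥L) := hR (Subgroup.mem_zpowers _)
    have hRne : (R : Subgroup ↥L) ≠ ⊥ := by
      intro h
      rw [h, Subgroup.mem_bot] at hyR
      exact hy1 (congrArg Subtype.val hyR)
    obtain ⟨z, hzR, hz1, hzc⟩ := exists_central (R : Subgroup ↥L) R.2 hRne
    -- `R ≤ C(y)`
    have hzy : (z : G) * y = y * (z : G) := by
      have := hzc _ hyR
      exact (congrArg Subtype.val this).symm
    have hz1' : (z : G) ≠ 1 := fun h => hz1 (Subtype.ext h)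
    have hRy : ∀ u ∈ (R : Subgroup ↥L), (u : G) * y = y * (u : G) := by
      intro u hu
      have h1 : (u : G) * (z : G) = (z : G) * (u : G) := congrArg Subtype.val (hzc u hu)
      exact (hα (z : G) z.2 hz1' hzy (u : G) u.2).mp h1
    have hNC : Subgroup.normalizer ((R : Subgroup ↥L) : Set ↥L) ≤
        Subgroup.centralizer ((R : Subgroup ↥L) : Set ↥L) := by
      intro l hl
      rw [Subgroup.mem_centralizer_iff]
      intro u hu
      have h1 : l * ⟨y, hyL⟩ * l⁻¹ ∈ (R : Subgroup ↥L) :=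
        (Subgroup.mem_normalizer_iff.mp hl _).mp hyR
      have h2 := hRy _ h1
      have h3 : (l : G) * y = y * (l : G) := hβ (l : G) l.2 h2
      by_cases hu1 : u = 1
      · rw [hu1]; simp
      · have hu1' : (u : G) ≠ 1 := fun h => hu1 (Subtype.ext h)
        have h4 := (hα (u : G) u.2 hu1' (hRy u hu) (l : G) l.2).mpr h3
        apply Subtype.ext
        exact h4.symm
    have hcomp := MonoidHom.ker_transferSylow_isComplement' R hNC
    have hcard := hcomp.card_mul_card
    obtain ⟨M', hM'⟩ : ∃ M' : Subgroup ↥L, M' = (MonoidHom.transferSylow R hNC).ker := ⟨_, rfl⟩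
    rw [← hM'] at hcard
    have hRcard : 2 ≤ Nat.card (R : Subgroup ↥L) := by
      have h1 : Nat.card (R : Subgroup ↥L) ≠ 1 := by
        intro h
        exact hRne ((Subgroup.card_eq_one).mp h)
      have h2 : 0 < Nat.card (R : Subgroup ↥L) := Nat.card_pos
      omega
    have hMpos : 0 < Nat.card M' := Nat.card_pos
    have hMcard : Nat.card (M'.map L.subtype) < n := by
      rw [Subgroup.card_map_of_injective L.subtype_injective, ← hLn, ← hcard]
      nlinarith
    have hML : M'.map L.subtype ≤ L := Subgroup.map_subtype_le M'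
    obtain ⟨P, hPM, hP, hPx⟩ := ih _ hMcard (M'.map L.subtype) rfl (by
      intro y' hy'M hy'1 hy'p
      obtain ⟨ha, hb, hc⟩ := hL y' (hML hy'M) hy'1 hy'p
      refine ⟨fun w hw hw1 hwy x hx => ha w (hML hw) hw1 hwy x (hML hx),
        fun l hl => hb l (hML hl), ?_⟩
      intro hdvd
      apply hc
      exact hdvd.trans (Subgroup.card_dvd_of_le (inf_le_inf_left _ hML)))
    refine ⟨P, hPM.trans hML, hP, ?_⟩
    intro x hxL hxp
    apply hPx x _ hxp
    rw [Subgroup.mem_map]
    refine ⟨⟨x, hxL⟩, ?_, rfl⟩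
    rw [hM', MonoidHom.mem_ker]
    obtain ⟨i, hi⟩ := hxp
    have h1 : orderOf (MonoidHom.transferSylow R hNC ⟨x, hxL⟩) ∣ p ^ i := by
      rw [← hi, ← Subgroup.orderOf_mk x hxL]
      exact orderOf_map_dvd _ _
    obtain ⟨j, hj⟩ := IsPGroup.iff_card.mp R.2
    have h2 : orderOf (MonoidHom.transferSylow R hNC ⟨x, hxL⟩) ∣ r ^ j := by
      rw [← hj]; exact orderOf_dvd_natCard _
    have h3 : Nat.Coprime (p ^ i) (r ^ j) :=
      Nat.Coprime.pow _ _ ((Nat.coprime_primes hp hr).mpr (Ne.symm hrp))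
    have h4 : orderOf (MonoidHom.transferSylow R hNC ⟨x, hxL⟩) = 1 :=
      Nat.dvd_one.mp (by rw [← h3.gcd_eq_one]; exact Nat.dvd_gcd h1 h2)
    exact orderOf_eq_one_iff.mp h4

/-- [PClosed] -/
theorem main : Cfsg.Agent.Lib.Helper25.BSWSpec.PClosed.{u} := by
  intro G _ _ p hp L hL
  exact main_aux p hp _ L rfl hL

end Cfsg.Agent.Lib.Helper21.BSWPClosed
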