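import Mathlib
import Cfsg.Agent.Lib.Helper25.BSWSpec

/-!
# S3282 / piece PartitionLemma: a finite group in which the centralizers of the nonidentity
elements are self-normalizing and "transitive" (`w ∈ C(y)`, `w ≠ 1` ⟹ `C(w) = C(y)`) is abelian

Proof: `y ≠ 1` in the centre of a Sylow `p`-subgroup `P`, `W = C(y) ⊇ P` abelian,
`N(P) ≤ N(W) = W ≤ C(P)`, Burnside's transfer theorem gives a normal `p`-complement `M`, abelian
by induction; the elements of `M` are central (their centralizer is normal, hence everything),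
so `W ⊇ M P = L`.
-/

set_option autoImplicit false
set_option maxHeartbeats 1000000
set_option linter.style.haveILetI false

namespace Cfsg.Agent.Lib.Helper21.BSWPartitionLemma

open Cfsg

universe u

/-- the hypothesis of the partition lemma -/
def Hyp (L : Type u) [Group L] : Prop :=
  ∀ y : L, y ≠ 1 →
    (∀ w ∈ Subgroup.centralizer ({y} : Set L), w ≠ 1 →
      Subgroup.centralizer ({w} : Set L) = Subgroup.centralizer ({y} : Set L)) ∧
    Subgroup.normalizer (Subgroup.centralizer ({y} : Set L) : Set L) =
      Subgroup.centralizer ({y} : Set L)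

theorem mem_cent {L : Type u} [Group L] {x y : L} :
    x ∈ Subgroup.centralizer ({y} : Set L) ↔ x * y = y * x := by
  rw [Subgroup.mem_centralizer_iff]
  constructor
  · intro h; exact (h y rfl).symm
  · intro h z hz
    rw [Set.mem_singleton_iff] at hz
    rw [hz]; exact h.symm

/-- conjugating: `g ∈ N(C(y))` as soon as `C(g y g⁻¹) = C(y)` -/
theorem mem_normalizer_of_cent_conj {L : Type u} [Group L] {g y : L}
    (h : Subgroup.centralizer ({g * y * g⁻¹} : Set L) = Subgroup.centralizer ({y} : Set L)) :
    g ∈ Subgroup.normalizer (Subgroup.centralizer ({y} : Set L) : Set L) := by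
  rw [Subgroup.mem_normalizer_iff]
  intro x
  have key : g * x * g⁻¹ ∈ Subgroup.centralizer ({g * y * g⁻¹} : Set L) ↔
      x ∈ Subgroup.centralizer ({y} : Set L) := by
    rw [mem_cent, mem_cent]
    constructor
    · intro hx
      calc x * y = g⁻¹ * (g * x * g⁻¹ * (g * y * g⁻¹)) * g := by group
        _ = g⁻¹ * (g * y * g⁻¹ * (g * x * g⁻¹)) * g := by rw [hx]
        _ = y * x := by group
    · intro hx
      calc g * x * g⁻¹ * (g * y * g⁻¹) = g * (x * y) * g⁻¹ := by group
        _ = g * (y * x) * g⁻¹ := by rw [hx]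
        _ = g * y * g⁻¹ * (g * x * g⁻¹) := by group
  rw [h] at key
  exact key.symm

theorem hyp_sub {L : Type u} [Group L] (hL : Hyp L) (M : Subgroup L) : Hyp ↥M := by
  intro y hy
  have hy' : (y : L) ≠ 1 := fun h => hy (Subtype.ext h)
  obtain ⟨ha, hb⟩ := hL (y : L) hy'
  have key : ∀ w : ↥M, w ∈ Subgroup.centralizer ({y} : Set ↥M) → w ≠ 1 →
      Subgroup.centralizer ({w} : Set ↥M) = Subgroup.centralizer ({y} : Set ↥M) := by
    intro w hw hw1
    have hw' : (w : L) ∈ Subgroup.centralizer ({(y : L)} : Set L) := by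
      rw [mem_cent] at hw ⊢
      exact_mod_cast congrArg Subtype.val hw
    have hw1' : (w : L) ≠ 1 := fun h => hw1 (Subtype.ext h)
    have h1 := ha (w : L) hw' hw1'
    ext x
    rw [mem_cent, mem_cent]
    have h2 : (x : L) ∈ Subgroup.centralizer ({(w : L)} : Set L) ↔
        (x : L) ∈ Subgroup.centralizer ({(y : L)} : Set L) := by rw [h1]
    rw [mem_cent, mem_cent] at h2
    constructor
    · intro h
      exact Subtype.ext (h2.mp (by exact_mod_cast congrArg Subtype.val h))
    · intro h
      exact Subtype.ext (h2.mpr (by exact_mod_cast congrArg Subtype.val h))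
  refine ⟨key, le_antisymm ?_ Subgroup.le_normalizer⟩
  intro n hn
  have hyy : y ∈ Subgroup.centralizer ({y} : Set ↥M) := mem_cent.mpr rfl
  have h1 : n * y * n⁻¹ ∈ Subgroup.centralizer ({y} : Set ↥M) :=
    (Subgroup.mem_normalizer_iff.mp hn y).mp hyy
  have h1ne : n * y * n⁻¹ ≠ 1 := by
    intro h
    apply hy
    have : y = n⁻¹ * (n * y * n⁻¹) * n := by group
    rw [this, h]; group
  have h2 := key _ h1 h1ne
  -- transfer to `L`
  have h3 : ((n : L) * (y : L) * (n : L)⁻¹) ∈ Subgroup.centralizer ({(y : L)} : Set L) := by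
    rw [mem_cent] at h1 ⊢
    exact_mod_cast congrArg Subtype.val h1
  have h3ne : ((n : L) * (y : L) * (n : L)⁻¹) ≠ 1 := by
    intro h
    apply h1ne
    apply Subtype.ext
    simpa using h
  have h4 := ha _ h3 h3ne
  have h5 : (n : L) ∈ Subgroup.normalizer (Subgroup.centralizer ({(y : L)} : Set L) : Set L) :=
    mem_normalizer_of_cent_conj h4
  rw [hb, mem_cent] at h5
  rw [mem_cent]
  exact Subtype.ext h5

theorem partition_aux : ∀ n : ℕ, ∀ (L : Type u) [Group L] [Finite L], Nat.card L = n → Hyp L →
    ∀ a b : L, a * b = b * a := by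
  intro n
  induction n using Nat.strong_induction_on with
  | _ n ih =>
    intro L _ _ hn hL
    by_cases h1 : Nat.card L = 1
    · have := (Nat.card_eq_one_iff_unique.mp h1).1
      intro a b
      rw [Subsingleton.elim a 1, Subsingleton.elim b 1]
    obtain ⟨p, hp, hpd⟩ := Nat.exists_prime_and_dvd h1
    haveI : Fact p.Prime := ⟨hp⟩
    obtain ⟨P⟩ : Nonempty (Sylow p L) := inferInstance
    have hPne : (P : Subgroup L) ≠ ⊥ := P.ne_bot_of_dvd_card hpd
    haveI : Nontrivial ↥(P : Subgroup L) := (Subgroup.nontrivial_iff_ne_bot _).mpr hPne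
    haveI := P.2.center_nontrivial
    obtain ⟨z, hz⟩ := exists_ne (1 : Subgroup.center ↥(P : Subgroup L))
    obtain ⟨y, hydef⟩ : ∃ y : L, y = ((z : ↥(P : Subgroup L)) : L) := ⟨_, rfl⟩
    have hyP : y ∈ (P : Subgroup L) := by rw [hydef]; exact (z : ↥(P : Subgroup L)).2
    have hy1 : y ≠ 1 := by
      intro h
      apply hz
      apply Subtype.ext
      apply Subtype.ext
      rw [← hydef, h]
      rfl
    have hycomm : ∀ x ∈ (P : Subgroup L), x * y = y * x := by
      intro x hx
      have := Subgroup.mem_center_iff.mp z.2 ⟨x, hx⟩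
      have h2 := congrArg Subtype.val this
      rw [hydef]
      simpa using h2
    obtain ⟨ha, hb⟩ := hL y hy1
    -- `W = C(y)` is abelian
    have hWab : ∀ a b : L, a ∈ Subgroup.centralizer ({y} : Set L) →
        b ∈ Subgroup.centralizer ({y} : Set L) → a * b = b * a := by
      intro a b ha' hb'
      by_cases ha1 : a = 1
      · rw [ha1]; group
      · have := ha a ha' ha1
        rw [← this, mem_cent] at hb'
        exact hb'.symm
    have hPW : (P : Subgroup L) ≤ Subgroup.centralizer ({y} : Set L) := by
      intro x hx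
      exact mem_cent.mpr (hycomm x hx)
    -- `N(P) ≤ C(P)`
    have hNC : Subgroup.normalizer ((P : Subgroup L) : Set L) ≤
        Subgroup.centralizer ((P : Subgroup L) : Set L) := by
      intro g hg
      have h1' : g * y * g⁻¹ ∈ (P : Subgroup L) := (Subgroup.mem_normalizer_iff.mp hg y).mp hyP
      have h1ne : g * y * g⁻¹ ≠ 1 := by
        intro h
        apply hy1
        have : y = g⁻¹ * (g * y * g⁻¹) * g := by group
        rw [this, h]; group
      have h2 := ha _ (hPW h1') h1ne
      have h3 : g ∈ Subgroup.normalizer (Subgroup.centralizer ({y} : Set L) : Set L) :=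
        mem_normalizer_of_cent_conj h2
      rw [hb] at h3
      rw [Subgroup.mem_centralizer_iff]
      intro x hx
      exact hWab x g (hPW hx) h3
    have hcompl := MonoidHom.ker_transferSylow_isComplement' P hNC
    obtain ⟨M, hMdef⟩ : ∃ M : Subgroup L, M = (MonoidHom.transferSylow P hNC).ker := ⟨_, rfl⟩
    rw [← hMdef] at hcompl
    have hMnormal : M.Normal := by rw [hMdef]; infer_instance
    have hcardmul : Nat.card ↥M * Nat.card ↥(P : Subgroup L) = Nat.card L := hcompl.card_mul_card
    have hPcard : 1 < Nat.card ↥(P : Subgroup L) := by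
      rw [Nat.one_lt_iff_ne_zero_and_ne_one]
      refine ⟨Nat.card_pos.ne', ?_⟩
      intro h
      exact hPne ((Subgroup.card_eq_one).mp h)
    have hMpos : 0 < Nat.card ↥M := Nat.card_pos
    have hMlt : Nat.card ↥M < n := by
      rw [← hn, ← hcardmul]
      nlinarith
    have hMab := ih (Nat.card ↥M) hMlt ↥M rfl (hyp_sub hL M)
    -- elements of `M` are central
    have hMcent : ∀ m ∈ M, ∀ g : L, g * m = m * g := by
      intro m hm g
      by_cases hm1 : m = 1
      · rw [hm1]; group
      obtain ⟨ha', hb'⟩ := hL m hm1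
      have hMC : M ≤ Subgroup.centralizer ({m} : Set L) := by
        intro x hx
        rw [mem_cent]
        exact congrArg Subtype.val (hMab ⟨x, hx⟩ ⟨m, hm⟩)
      have h1' : g * m * g⁻¹ ∈ M := hMnormal.conj_mem m hm g
      have h1ne : g * m * g⁻¹ ≠ 1 := by
        intro h
        apply hm1
        have : m = g⁻¹ * (g * m * g⁻¹) * g := by group
        rw [this, h]; group
      have h2 := ha' _ (hMC h1') h1ne
      have h3 : g ∈ Subgroup.normalizer (Subgroup.centralizer ({m} : Set L) : Set L) :=
        mem_normalizer_of_cent_conj h2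
      rw [hb', mem_cent] at h3
      exact h3
    have hMW : M ≤ Subgroup.centralizer ({y} : Set L) := by
      intro m hm
      rw [mem_cent]
      exact (hMcent m hm y).symm
    have htop : Subgroup.centralizer ({y} : Set L) = ⊤ := by
      rw [eq_top_iff, ← hcompl.sup_eq_top]
      exact sup_le hMW hPW
    intro a b
    exact hWab a b (by rw [htop]; trivial) (by rw [htop]; trivial)

/-- [PartitionLemma] -/
theorem main : Cfsg.Agent.Lib.Helper25.BSWSpec.PartitionLemma.{u} := by
  intro L _ _ h
  exact partition_aux _ L rfl h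

end Cfsg.Agent.Lib.Helper21.BSWPartitionLemma
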