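import Mathlib
import Cfsg.Agent.Lib.Helper25.BSWSpec
import Cfsg.Agent.Lib.Helper21.BSWBase

/-!
# S3282 / piece RealStruct1: the centralizer of a strongly real element not conjugate into `K`
-/

set_option autoImplicit false
set_option maxHeartbeats 1000000

namespace Cfsg.Agent.Lib.Helper21.BSWRealStruct1

open Cfsg Cfsg.Agent.Lib.Helper25.BSWSpec Cfsg.Agent.Lib.Helper21.BSWBase

universe u

variable {G : Type u} [Group G] {t s : G} {K : Subgroup G} {k : ℕ}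

/-- `w` normalizes `C(z)` -/
theorem conj_mem_cent {z w : G} (hw : orderOf w = 2) (hwz : w * z * w⁻¹ = z⁻¹) {c : G}
    (hc : c * z = z * c) : (w * c * w⁻¹) * z = z * (w * c * w⁻¹) := by
  have hwi := inv_eq_self_of_orderOf_two hw
  have h1 : w * z⁻¹ * w⁻¹ = z := by
    have : w * z⁻¹ * w⁻¹ = (w * z * w⁻¹)⁻¹ := by group
    rw [this, hwz, inv_inv]
  have h2 : w⁻¹ * z * w = z⁻¹ := by
    have : w⁻¹ * z * w = w * z * w⁻¹ := by rw [hwi]
    rw [this, hwz]
  have hc' : c * z⁻¹ = z⁻¹ * c := by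
    calc c * z⁻¹ = z⁻¹ * (z * c) * z⁻¹ := by group
      _ = z⁻¹ * (c * z) * z⁻¹ := by rw [hc]
      _ = z⁻¹ * c := by group
  calc (w * c * w⁻¹) * z = w * c * (w⁻¹ * z * w) * w⁻¹ := by group
    _ = w * (c * z⁻¹) * w⁻¹ := by rw [h2]; group
    _ = w * (z⁻¹ * c) * w⁻¹ := by rw [hc']
    _ = (w * z⁻¹ * w⁻¹) * (w * c * w⁻¹) := by group
    _ = z * (w * c * w⁻¹) := by rw [h1]

/-- (1) `w` inverts `C(z)` -/
theorem inverts_cent [Finite G] (hB : Basic t K s k) {z w : G} (hz : NotConjK K z) (hw : orderOf w = 2)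
    (hwz : w * z * w⁻¹ = z⁻¹) :
    ∀ x ∈ Subgroup.centralizer ({z} : Set G), w * x * w⁻¹ = x⁻¹ := by
  have hwi := inv_eq_self_of_orderOf_two hw
  have hww : w * w = 1 := by
    have h : w ^ 2 = 1 := by rw [← hw]; exact pow_orderOf_eq_one w
    rwa [pow_two] at h
  let f : ↥(Subgroup.centralizer ({z} : Set G)) → ↥(Subgroup.centralizer ({z} : Set G)) :=
    fun c => ⟨(c : G)⁻¹ * (w * (c : G) * w⁻¹),
      Subgroup.mul_mem _ (Subgroup.inv_mem _ c.2)
        (mem_cent.mpr (conj_mem_cent hw hwz (mem_cent.mp c.2)))⟩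
  have hinj : Function.Injective f := by
    intro c d hcd
    have h1 : (c : G)⁻¹ * (w * (c : G) * w⁻¹) = (d : G)⁻¹ * (w * (d : G) * w⁻¹) :=
      congrArg Subtype.val hcd
    -- `d c⁻¹` commutes with `w`
    have h2 : ((d : G) * (c : G)⁻¹) * w = w * ((d : G) * (c : G)⁻¹) := by
      have e1 : (d : G) * (c : G)⁻¹ = w * (d : G) * w⁻¹ * (w * (c : G) * w⁻¹)⁻¹ := by
        calc (d : G) * (c : G)⁻¹ = (d : G) * ((c : G)⁻¹ * (w * (c : G) * w⁻¹)) * (w * (c : G) * w⁻¹)⁻¹ := by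
              group
          _ = (d : G) * ((d : G)⁻¹ * (w * (d : G) * w⁻¹)) * (w * (c : G) * w⁻¹)⁻¹ := by rw [h1]
          _ = w * (d : G) * w⁻¹ * (w * (c : G) * w⁻¹)⁻¹ := by group
      have e2 : w * (d : G) * w⁻¹ * (w * (c : G) * w⁻¹)⁻¹ = w * ((d : G) * (c : G)⁻¹) * w⁻¹ := by
        group
      rw [e2] at e1
      calc ((d : G) * (c : G)⁻¹) * w = (w * ((d : G) * (c : G)⁻¹) * w⁻¹) * w := by rw [← e1]
        _ = w * ((d : G) * (c : G)⁻¹) := by group
    have h3 : ((d : G) * (c : G)⁻¹) * z = z * ((d : G) * (c : G)⁻¹) :=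
      mem_cent.mp (Subgroup.mul_mem _ d.2 (Subgroup.inv_mem _ c.2))
    by_contra hne
    have h4 : (d : G) * (c : G)⁻¹ ≠ 1 := by
      intro h
      apply hne
      apply Subtype.ext
      have : (d : G) = (d : G) * (c : G)⁻¹ * (c : G) := by group
      rw [this, h, one_mul]
    exact not_comm_invol hB hz h3 h4 hw h2
  have hsurj : Function.Surjective f := Finite.injective_iff_surjective.mp hinj
  intro x hx
  obtain ⟨c, hc⟩ := hsurj ⟨x, hx⟩
  have hx' : x = (c : G)⁻¹ * (w * (c : G) * w⁻¹) := (congrArg Subtype.val hc).symm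
  rw [hx', eq_inv_iff_mul_eq_one, hwi]
  obtain ⟨a, ha⟩ : ∃ a : G, a = (c : G) := ⟨_, rfl⟩
  rw [← ha]
  calc w * (a⁻¹ * (w * a * w)) * w * (a⁻¹ * (w * a * w))
      = w * a⁻¹ * w * a * (w * w) * a⁻¹ * w * a * w := by group
    _ = w * a⁻¹ * w * a * a⁻¹ * w * a * w := by rw [hww, mul_one]
    _ = w * a⁻¹ * (w * w) * a * w := by group
    _ = w * a⁻¹ * a * w := by rw [hww, mul_one]
    _ = w * w := by group
    _ = 1 := hww

/-- `C(z)` is abelian -/
theorem cent_comm [Finite G] (hB : Basic t K s k) {z w : G} (hz : NotConjK K z)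
    (hw : orderOf w = 2) (hwz : w * z * w⁻¹ = z⁻¹) {a b : G} (ha : a * z = z * a)
    (hb : b * z = z * b) : a * b = b * a := by
  have hinv := inverts_cent hB hz hw hwz
  have h1 := hinv a (mem_cent.mpr ha)
  have h2 := hinv b (mem_cent.mpr hb)
  have h3 := hinv (a * b) (Subgroup.mul_mem _ (mem_cent.mpr ha) (mem_cent.mpr hb))
  have h4 : w * (a * b) * w⁻¹ = (w * a * w⁻¹) * (w * b * w⁻¹) := by group
  rw [h4, h1, h2] at h3
  -- a⁻¹ b⁻¹ = (a b)⁻¹ = b⁻¹ a⁻¹
  have h5 : a⁻¹ * b⁻¹ = b⁻¹ * a⁻¹ := by rw [h3]; group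
  calc a * b = (b⁻¹ * a⁻¹)⁻¹ := by group
    _ = (a⁻¹ * b⁻¹)⁻¹ := by rw [h5]
    _ = b * a := by group

/-- (2) `C(x) = C(z)` for `1 ≠ x ∈ C(z)` -/
theorem cent_eq [Finite G] (hB : Basic t K s k) {z w : G} (hz : NotConjK K z)
    (hw : orderOf w = 2) (hwz : w * z * w⁻¹ = z⁻¹) {x : G} (hx : x * z = z * x) (hx1 : x ≠ 1) :
    Subgroup.centralizer ({x} : Set G) = Subgroup.centralizer ({z} : Set G) := by
  have hxN : NotConjK K x := notConjK_of_comm hB hz hx hx1
  have hwx : w * x * w⁻¹ = x⁻¹ := inverts_cent hB hz hw hwz x (mem_cent.mpr hx)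
  ext c
  rw [mem_cent, mem_cent]
  constructor
  · intro hc
    -- `c, z ∈ C(x)`, abelian
    exact cent_comm hB hxN hw hwx hc hx.symm
  · intro hc
    exact cent_comm hB hz hw hwz hc hx

/-- (3) the involutions inverting `z` are the elements `c w`, `c ∈ C(z)` -/
theorem aInv_eq [Finite G] (hB : Basic t K s k) {z w : G} (hz : NotConjK K z)
    (hw : orderOf w = 2) (hwz : w * z * w⁻¹ = z⁻¹) :
    aInv z = Nat.card (Subgroup.centralizer ({z} : Set G)) := by
  have hwi := inv_eq_self_of_orderOf_two hw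
  have hww : w * w = 1 := by
    have h : w ^ 2 = 1 := by rw [← hw]; exact pow_orderOf_eq_one w
    rwa [pow_two] at h
  have hinv := inverts_cent hB hz hw hwz
  have hz1 : z ≠ 1 := notConjK_ne_one hz
  -- `w ∉ C(z)`
  have hwC : ¬ (w * z = z * w) := by
    intro h
    exact not_comm_invol hB hz (x := z) rfl hz1 hw h.symm
  unfold aInv
  symm
  refine Nat.card_congr
    { toFun := fun c => ⟨(c : G) * w, ?_, ?_⟩
      invFun := fun v => ⟨(v : G) * w⁻¹, ?_⟩
      left_inv := fun c => Subtype.ext (by simp)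
      right_inv := fun v => Subtype.ext (by simp) }
  · -- order 2
    have hc := hinv (c : G) c.2
    have hsq : ((c : G) * w) ^ 2 = 1 := by
      rw [pow_two]
      calc (c : G) * w * ((c : G) * w) = (c : G) * (w * (c : G) * w⁻¹) * (w * w) := by group
        _ = 1 := by rw [hc, hww]; group
    have hne : (c : G) * w ≠ 1 := by
      intro h
      apply hwC
      have hw' : w = (c : G)⁻¹ := eq_inv_of_mul_eq_one_right h
      rw [hw']
      exact mem_cent.mp (Subgroup.inv_mem _ c.2)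
    exact orderOf_eq_prime hsq hne
  · -- inverts `z`
    have hc : (c : G) * z⁻¹ = z⁻¹ * (c : G) := by
      have h0 := mem_cent.mp c.2
      calc (c : G) * z⁻¹ = z⁻¹ * (z * (c : G)) * z⁻¹ := by group
        _ = z⁻¹ * ((c : G) * z) * z⁻¹ := by rw [h0]
        _ = z⁻¹ * (c : G) := by group
    calc (c : G) * w * z * ((c : G) * w)⁻¹ = (c : G) * (w * z * w⁻¹) * (c : G)⁻¹ := by group
      _ = (c : G) * z⁻¹ * (c : G)⁻¹ := by rw [hwz]
      _ = z⁻¹ * (c : G) * (c : G)⁻¹ := by rw [hc]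
      _ = z⁻¹ := by group
  · -- `v w⁻¹ ∈ C(z)`
    rw [mem_cent]
    have hv := v.2.2
    have h2 : w⁻¹ * z * w = z⁻¹ := by
      have : w⁻¹ * z * w = w * z * w⁻¹ := by rw [hwi]
      rw [this, hwz]
    calc (v : G) * w⁻¹ * z = (v : G) * (w⁻¹ * z * w) * w⁻¹ := by group
      _ = (v : G) * z⁻¹ * w⁻¹ := by rw [h2]
      _ = ((v : G) * z * (v : G)⁻¹)⁻¹ * (v : G) * w⁻¹ := by group
      _ = z * ((v : G) * w⁻¹) := by rw [hv]; group

/-- [RealStruct1] -/
theorem main : Cfsg.Agent.Lib.Helper25.BSWSpec.RealStruct1.{u} := by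
  intro G _ _ t K s k hB z w hz hw hwz
  refine ⟨inverts_cent hB hz hw hwz, ?_, aInv_eq hB hz hw hwz⟩
  intro x hx hx1
  have hx' := mem_cent.mp hx
  exact ⟨notConjK_of_comm hB hz hx' hx1, cent_eq hB hz hw hwz hx' hx1⟩


end Cfsg.Agent.Lib.Helper21.BSWRealStruct1
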