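import Mathlib
import Cfsg.Agent.Lib.Helper25.BSWSpec
import Cfsg.Agent.Lib.Helper21.BSWBase
import Cfsg.Agent.Lib.Helper21.BSWRealStruct1

/-!
# S3282 / piece RealStruct2: the normalizer of the centralizer of a strongly real element not
conjugate into `K`
-/

set_option autoImplicit false
set_option maxHeartbeats 1000000

namespace Cfsg.Agent.Lib.Helper21.BSWRealStruct2

open Cfsg Cfsg.Agent.Lib.Helper25.BSWSpec Cfsg.Agent.Lib.Helper21.BSWBase
  Cfsg.Agent.Lib.Helper21.BSWRealStruct1

universe u

variable {G : Type u} [Group G] {t s : G} {K : Subgroup G} {k : ℕ}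

theorem mul_self_of_orderOf_two {w : G} (hw : orderOf w = 2) : w * w = 1 := by
  have h : w ^ 2 = 1 := by rw [← hw]; exact pow_orderOf_eq_one w
  rwa [pow_two] at h

/-- a free action: the order of the group divides the cardinality of the set -/
theorem card_dvd_of_free' {A Ω : Type*} [Group A] [MulAction A Ω]
    (h : ∀ (a : A) (b : Ω), a • b = b → a = 1) : Nat.card A ∣ Nat.card Ω := by
  have h' : ∀ b : Ω, MulAction.stabilizer A b = ⊥ := by
    intro b
    rw [eq_bot_iff]
    intro g hg
    rw [Subgroup.mem_bot]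
    exact h g b hg
  have e := MulAction.selfEquivOrbitsQuotientProd h'
  rw [Nat.card_congr e, Nat.card_prod]
  exact dvd_mul_left _ _

/-- involutions normalizing `C(z)` invert it -/
theorem inverts_of_normalizes [Finite G] (hB : Basic t K s k) {z w : G} (hz : NotConjK K z)
    (hw : orderOf w = 2) (hwz : w * z * w⁻¹ = z⁻¹) {e : G} (he : orderOf e = 2)
    (heN : e ∈ Subgroup.normalizer (Subgroup.centralizer ({z} : Set G) : Set G)) :
    ∀ x ∈ Subgroup.centralizer ({z} : Set G), e * x * e⁻¹ = x⁻¹ := by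
  intro x hx
  have hex : e * x * e⁻¹ ∈ Subgroup.centralizer ({z} : Set G) :=
    (Subgroup.mem_normalizer_iff.mp heN x).mp hx
  have hei := inv_eq_self_of_orderOf_two he
  have hee := mul_self_of_orderOf_two he
  have hcomm : x * (e * x * e⁻¹) = (e * x * e⁻¹) * x :=
    cent_comm hB hz hw hwz (mem_cent.mp hx) (mem_cent.mp hex)
  have hyC : x * (e * x * e⁻¹) ∈ Subgroup.centralizer ({z} : Set G) := Subgroup.mul_mem _ hx hex
  have hye : (x * (e * x * e⁻¹)) * e = e * (x * (e * x * e⁻¹)) := by
    rw [hei] at hcomm ⊢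
    calc x * (e * x * e) * e = x * e * x * (e * e) := by group
      _ = x * e * x := by rw [hee, mul_one]
      _ = (e * e) * x * e * x := by rw [hee, one_mul]
      _ = e * ((e * x * e) * x) := by group
      _ = e * (x * (e * x * e)) := by rw [← hcomm]
  have hy1 : x * (e * x * e⁻¹) = 1 := by
    by_contra h
    exact not_comm_invol hB hz (mem_cent.mp hyC) h he hye
  exact eq_inv_of_mul_eq_one_right hy1

/-- [RealStruct2] -/
theorem main : Cfsg.Agent.Lib.Helper25.BSWSpec.RealStruct2.{u} := by
  intro _ G _ _ t K s k hB z w hz hw hwz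
  have hwi := inv_eq_self_of_orderOf_two hw
  have hww := mul_self_of_orderOf_two hw
  have hz1 : z ≠ 1 := notConjK_ne_one hz
  have hzC : z ∈ Subgroup.centralizer ({z} : Set G) := mem_cent.mpr rfl
  have hinv := inverts_cent hB hz hw hwz
  -- `w` normalizes `C(z)`
  have hwN : w ∈ Subgroup.normalizer (Subgroup.centralizer ({z} : Set G) : Set G) := by
    rw [Subgroup.mem_normalizer_iff]
    intro x
    constructor
    · intro hx
      exact mem_cent.mpr (conj_mem_cent hw hwz (mem_cent.mp hx))
    · intro hx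
      have h1 := conj_mem_cent hw hwz (mem_cent.mp hx)
      have e : w * (w * x * w⁻¹) * w⁻¹ = x := by
        rw [hwi]
        calc w * (w * x * w) * w = (w * w) * x * (w * w) := by group
          _ = x := by rw [hww, one_mul, mul_one]
      rw [e] at h1
      exact mem_cent.mpr h1
  -- no involutions in `C(z)`, squaring is injective there
  have hnoinv : ∀ u ∈ Subgroup.centralizer ({z} : Set G), u * u = 1 → u = 1 := by
    intro u hu huu
    by_contra hu1
    have hord : orderOf u = 2 := orderOf_eq_prime (by rw [pow_two]; exact huu) hu1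
    exact not_comm_invol hB hz (mem_cent.mp hu) hu1 hord rfl
  have hab : ∀ a b : G, a ∈ Subgroup.centralizer ({z} : Set G) →
      b ∈ Subgroup.centralizer ({z} : Set G) → a * b = b * a :=
    fun a b ha hb => cent_comm hB hz hw hwz (mem_cent.mp ha) (mem_cent.mp hb)
  have hsqinj : Function.Injective
      (fun x : ↥(Subgroup.centralizer ({z} : Set G)) => x * x) := by
    intro x y hxy
    have h1 : (x : G) * (x : G) = (y : G) * (y : G) := congrArg Subtype.val hxy
    have h2 : ((x : G) * (y : G)⁻¹) * ((x : G) * (y : G)⁻¹) = 1 := by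
      have hc := hab (x : G) (y : G)⁻¹ x.2 (Subgroup.inv_mem _ y.2)
      calc ((x : G) * (y : G)⁻¹) * ((x : G) * (y : G)⁻¹)
          = (x : G) * ((y : G)⁻¹ * (x : G)) * (y : G)⁻¹ := by group
        _ = (x : G) * ((x : G) * (y : G)⁻¹) * (y : G)⁻¹ := by rw [hc]
        _ = ((x : G) * (x : G)) * (y : G)⁻¹ * (y : G)⁻¹ := by group
        _ = ((y : G) * (y : G)) * (y : G)⁻¹ * (y : G)⁻¹ := by rw [h1]
        _ = 1 := by group
    have h3 := hnoinv _ (Subgroup.mul_mem _ x.2 (Subgroup.inv_mem _ y.2)) h2
    apply Subtype.ext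
    calc (x : G) = (x : G) * (y : G)⁻¹ * (y : G) := by group
      _ = (y : G) := by rw [h3, one_mul]
  have hsqsurj : Function.Surjective
      (fun x : ↥(Subgroup.centralizer ({z} : Set G)) => x * x) :=
    Finite.injective_iff_surjective.mp hsqinj
  obtain ⟨g, hg⟩ := isConj_iff.mp (hB.hconj t w hB.ht hw)
  refine ⟨Subgroup.normalizer (Subgroup.centralizer ({z} : Set G) : Set G) ⊓
    Subgroup.centralizer ({w} : Set G), ?_, ?_, ?_, ?_, g, hg, ?_⟩
  · -- `N(C) = C ⊔ E`
    apply le_antisymm
    · intro n hn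
      obtain ⟨w', hw'def⟩ : ∃ w' : G, w' = n * w * n⁻¹ := ⟨_, rfl⟩
      have hw'ord : orderOf w' = 2 := by
        rw [hw'def, ← hw]
        exact MulEquiv.orderOf_eq (MulAut.conj n) w
      have hw'N : w' ∈ Subgroup.normalizer (Subgroup.centralizer ({z} : Set G) : Set G) := by
        rw [hw'def]
        exact Subgroup.mul_mem _ (Subgroup.mul_mem _ hn hwN) (Subgroup.inv_mem _ hn)
      have hinv' := inverts_of_normalizes hB hz hw hwz hw'ord hw'N
      have hw'i := inv_eq_self_of_orderOf_two hw'ord
      -- `c0 = w' w⁻¹ ∈ C`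
      have hc0 : w' * w⁻¹ ∈ Subgroup.centralizer ({z} : Set G) := by
        rw [mem_cent]
        have h1 := hinv' z hzC
        have h2 : w⁻¹ * z * w = z⁻¹ := by
          have : w⁻¹ * z * w = w * z * w⁻¹ := by rw [hwi]
          rw [this, hwz]
        have h3 : w' * z⁻¹ * w'⁻¹ = z := by
          have : w' * z⁻¹ * w'⁻¹ = (w' * z * w'⁻¹)⁻¹ := by group
          rw [this, h1, inv_inv]
        calc w' * w⁻¹ * z = w' * (w⁻¹ * z * w) * w⁻¹ := by group
          _ = w' * z⁻¹ * w'⁻¹ * (w' * w⁻¹) := by rw [h2]; group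
          _ = z * (w' * w⁻¹) := by rw [h3]
      obtain ⟨x, hx⟩ := hsqsurj ⟨w' * w⁻¹, hc0⟩
      have hx' : (x : G) * (x : G) = w' * w⁻¹ := congrArg Subtype.val hx
      have hxinv := hinv (x : G) x.2
      -- `e = x⁻¹ n` commutes with `w`
      have hew : ((x : G)⁻¹ * n) * w = w * ((x : G)⁻¹ * n) := by
        have h1 : n * w = w' * n := by rw [hw'def]; group
        have h2 : w' = (x : G) * (x : G) * w := by rw [hx']; group
        have h3 : w * (x : G)⁻¹ = (x : G) * w := by
          have : w * (x : G)⁻¹ = (w * (x : G) * w⁻¹)⁻¹ * w := by group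
          rw [this, hxinv, inv_inv]
        calc ((x : G)⁻¹ * n) * w = (x : G)⁻¹ * (n * w) := by group
          _ = (x : G)⁻¹ * (w' * n) := by rw [h1]
          _ = (x : G)⁻¹ * ((x : G) * (x : G) * w * n) := by rw [h2]
          _ = ((x : G) * w) * n := by group
          _ = (w * (x : G)⁻¹) * n := by rw [h3]
          _ = w * ((x : G)⁻¹ * n) := by group
      have heE : (x : G)⁻¹ * n ∈
          Subgroup.normalizer (Subgroup.centralizer ({z} : Set G) : Set G) ⊓
            Subgroup.centralizer ({w} : Set G) :=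
        ⟨Subgroup.mul_mem _ (Subgroup.inv_mem _ (Subgroup.le_normalizer x.2)) hn,
          mem_cent.mpr hew⟩
      have hn' : n = (x : G) * ((x : G)⁻¹ * n) := by group
      rw [hn']
      exact Subgroup.mul_mem_sup x.2 heE
    · exact sup_le Subgroup.le_normalizer inf_le_left
  · -- `C ⊓ E = ⊥`
    rw [eq_bot_iff]
    intro x hx
    rw [Subgroup.mem_bot]
    by_contra hx1
    exact not_comm_invol hB hz (mem_cent.mp hx.1) hx1 hw (mem_cent.mp hx.2.2)
  · exact ⟨hwN, mem_cent.mpr rfl⟩
  · -- `|E|` divides `|C| - 1`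
    obtain ⟨E, hE⟩ : ∃ E : Subgroup G, E =
        Subgroup.normalizer (Subgroup.centralizer ({z} : Set G) : Set G) ⊓
          Subgroup.centralizer ({w} : Set G) := ⟨_, rfl⟩
    rw [← hE]
    classical
    have hcard : Nat.card {x : ↥(Subgroup.centralizer ({z} : Set G)) // x ≠ 1} =
        Nat.card ↥(Subgroup.centralizer ({z} : Set G)) - 1 := by
      have e := Equiv.optionSubtypeNe (1 : ↥(Subgroup.centralizer ({z} : Set G)))
      have h1 := Nat.card_congr e
      rw [Finite.card_option] at h1
      omega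
    rw [← hcard]
    let act : MulAction ↥E {x : ↥(Subgroup.centralizer ({z} : Set G)) // x ≠ 1} :=
      { smul := fun e x => ⟨⟨(e : G) * (x : G) * (e : G)⁻¹,
            (Subgroup.mem_normalizer_iff.mp (hE.le e.2).1
              (x : G)).mp x.1.2⟩,
          fun h => x.2 (Subtype.ext (by
            have h' : (e : G) * (x : G) * (e : G)⁻¹ = 1 := congrArg Subtype.val h
            have : ((x : ↥(Subgroup.centralizer ({z} : Set G))) : G) =
                (e : G)⁻¹ * ((e : G) * (x : G) * (e : G)⁻¹) * (e : G) := by group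
            rw [this, h']; simp))⟩
        one_smul := fun x => Subtype.ext (Subtype.ext (by
          show ((1 : ↥E) : G) * (x : G) * ((1 : ↥E) : G)⁻¹ = (x : G)
          simp))
        mul_smul := fun a b x => Subtype.ext (Subtype.ext (by
          show ((a * b : ↥E) : G) * (x : G) * ((a * b : ↥E) : G)⁻¹ =
            (a : G) * ((b : G) * (x : G) * (b : G)⁻¹) * (a : G)⁻¹
          simp only [Subgroup.coe_mul]
          group)) }
    refine @card_dvd_of_free' ↥E _ _ act ?_
    intro e x hex
    have h1 : (e : G) * (x : G) * (e : G)⁻¹ = (x : G) :=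
      congrArg (fun y : {x : ↥(Subgroup.centralizer ({z} : Set G)) // x ≠ 1} => ((y : ↥(Subgroup.centralizer ({z} : Set G))) : G)) hex
    have h2 : (e : G) * (x : G) = (x : G) * (e : G) := by
      calc (e : G) * (x : G) = (e : G) * (x : G) * (e : G)⁻¹ * (e : G) := by group
        _ = (x : G) * (e : G) := by rw [h1]
    have hx1 : ((x : ↥(Subgroup.centralizer ({z} : Set G))) : G) ≠ 1 :=
      fun h => x.2 (Subtype.ext h)
    have hxz := mem_cent.mp x.1.2
    have h3 := cent_eq hB hz hw hwz hxz hx1
    have h4 : (e : G) ∈ Subgroup.centralizer ({z} : Set G) := by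
      rw [← h3, mem_cent]; exact h2
    have h5 : (e : G) = 1 := by
      by_contra hne
      have heE := hE.le e.2
      exact not_comm_invol hB hz (mem_cent.mp h4) hne hw (mem_cent.mp heE.2)
    exact Subtype.ext h5
  · -- `E ≤ g K g⁻¹`
    intro e he
    rw [Subgroup.mem_map]
    have hew := mem_cent.mp he.2
    -- `g⁻¹ e g` commutes with `t`
    have h1 : (g⁻¹ * e * g) * t = t * (g⁻¹ * e * g) := by
      have ht' : t = g⁻¹ * w * g := by rw [← hg]; group
      rw [ht']
      calc g⁻¹ * e * g * (g⁻¹ * w * g) = g⁻¹ * (e * w) * g := by group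
        _ = g⁻¹ * (w * e) * g := by rw [hew]
        _ = g⁻¹ * w * g * (g⁻¹ * e * g) := by group
    rcases (hB.cent_t _).mp h1 with hK | ⟨a, ha, hea⟩
    · exact ⟨g⁻¹ * e * g, hK, by simp [MulAut.conj_apply]; group⟩
    · -- `e` is an involution of `N(C)` commuting with `w`: `e = w`
      have hord : orderOf e = 2 := by
        have h2 : orderOf (g⁻¹ * e * g) = 2 := by rw [hea]; exact hB.invol_coset a ha
        rw [← h2]
        have := MulEquiv.orderOf_eq (MulAut.conj g⁻¹) e
        rw [MulAut.conj_apply, inv_inv] at this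
        exact this.symm
      have hinv' := inverts_of_normalizes hB hz hw hwz hord he.1
      have hc0 : e * w⁻¹ ∈ Subgroup.centralizer ({z} : Set G) := by
        rw [mem_cent]
        have h1' := hinv' z hzC
        have h2 : w⁻¹ * z * w = z⁻¹ := by
          have : w⁻¹ * z * w = w * z * w⁻¹ := by rw [hwi]
          rw [this, hwz]
        have h3 : e * z⁻¹ * e⁻¹ = z := by
          have : e * z⁻¹ * e⁻¹ = (e * z * e⁻¹)⁻¹ := by group
          rw [this, h1', inv_inv]
        calc e * w⁻¹ * z = e * (w⁻¹ * z * w) * w⁻¹ := by group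
          _ = e * z⁻¹ * e⁻¹ * (e * w⁻¹) := by rw [h2]; group
          _ = z * (e * w⁻¹) := by rw [h3]
      have hcw : (e * w⁻¹) * w = w * (e * w⁻¹) := by
        calc (e * w⁻¹) * w = e := by group
          _ = (w * e) * w⁻¹ := by rw [← hew]; group
          _ = w * (e * w⁻¹) := by group
      have h5 : e * w⁻¹ = 1 := by
        by_contra hne
        exact not_comm_invol hB hz (mem_cent.mp hc0) hne hw hcw
      have h6 : e = w := by
        calc e = e * w⁻¹ * w := by group
          _ = w := by rw [h5, one_mul]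
      exact ⟨t, hB.htK, by rw [h6, ← hg]; simp [MulAut.conj_apply]⟩

end Cfsg.Agent.Lib.Helper21.BSWRealStruct2
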