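import Mathlib
import Cfsg.Agent.Lib.Helper25.BSWSpec
import Cfsg.Agent.Lib.Helper53.SylowMore

/-!
# S3282 / piece SylowTI: Sylow `p`-subgroups are TI if all `p`-local normalizers are `p`-closed
-/

set_option autoImplicit false
set_option maxHeartbeats 1000000

namespace Cfsg.Agent.Lib.Helper21.BSWSylowTI

open Cfsg

universe u

theorem pElt_of_mem_sylow {G : Type u} [Group G] [Finite G] {p : ℕ} [hp : Fact p.Prime]
    (P : Sylow p G) {x : G} (hx : x ∈ (P : Subgroup G)) : ∃ i : ℕ, orderOf x = p ^ i := by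
  obtain ⟨k, hk⟩ := P.2 ⟨x, hx⟩
  have hk' : x ^ p ^ k = 1 := by
    have := congrArg Subtype.val hk
    simpa using this
  have hdvd := orderOf_dvd_of_pow_eq_one hk'
  obtain ⟨i, -, hi⟩ := (Nat.dvd_prime_pow hp.out).mp hdvd
  exact ⟨i, hi⟩

theorem sylowTI_aux {G : Type u} [Group G] [Finite G] (p : ℕ) [hp : Fact p.Prime]
    (hyp : ∀ R : Subgroup G, R ≠ ⊥ → IsPGroup p ↥R →
      ∃ P : Subgroup G, P ≤ Subgroup.normalizer (R : Set G) ∧ IsPGroup p ↥P ∧
        ∀ x ∈ Subgroup.normalizer (R : Set G), (∃ i : ℕ, orderOf x = p ^ i) → x ∈ P) :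
    ∀ n : ℕ, ∀ P Q : Sylow p G, P ≠ Q →
      Nat.card G - Nat.card ↥((P : Subgroup G) ⊓ (Q : Subgroup G)) = n →
      (P : Subgroup G) ⊓ (Q : Subgroup G) = ⊥ := by
  intro n
  induction n using Nat.strong_induction_on with
  | _ n ih =>
    intro P Q hPQ hn
    by_contra hR
    obtain ⟨R, hRdef⟩ : ∃ R : Subgroup G, R = (P : Subgroup G) ⊓ (Q : Subgroup G) := ⟨_, rfl⟩
    rw [← hRdef] at hR hn
    have hRP : R ≤ (P : Subgroup G) := by rw [hRdef]; exact inf_le_left
    have hRQ : R ≤ (Q : Subgroup G) := by rw [hRdef]; exact inf_le_right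
    have hRp : IsPGroup p ↥R := P.2.to_le hRP
    obtain ⟨P0, hP0N, hP0p, hP0⟩ := hyp R hR hRp
    obtain ⟨S, hS⟩ := hP0p.exists_le_sylow
    have hcardle : ∀ T : Subgroup G, Nat.card ↥T ≤ Nat.card G := fun T => Subgroup.card_le_card_group T
    -- key: any Sylow `P'` containing `R` properly equals `S`
    have key : ∀ P' : Sylow p G, R ≤ (P' : Subgroup G) → R ≠ (P' : Subgroup G) → S = P' := by
      intro P' hRP' hne
      obtain ⟨x, hxP', hxN, hxR⟩ :=
        Cfsg.Agent.Lib.Helper53.SylowMore.exists_normalizer_not_mem (P' : Subgroup G) R P'.2 hRP' hne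
      have hxS : x ∈ (S : Subgroup G) := hS (hP0 x hxN (pElt_of_mem_sylow P' hxP'))
      by_contra hSP'
      have hRS : R ≤ (S : Subgroup G) := by
        intro r hr
        have hrN : r ∈ Subgroup.normalizer (R : Set G) := Subgroup.le_normalizer hr
        exact hS (hP0 r hrN (pElt_of_mem_sylow P (hRP hr)))
      have hlt : R < (S : Subgroup G) ⊓ (P' : Subgroup G) := by
        refine lt_of_le_of_ne (le_inf hRS hRP') ?_
        intro h
        apply hxR
        rw [h]
        exact ⟨hxS, hxP'⟩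
      have hcard : Nat.card ↥R < Nat.card ↥((S : Subgroup G) ⊓ (P' : Subgroup G)) :=
        Set.ncard_lt_ncard (s := (R : Set G)) (t := (((S : Subgroup G) ⊓ (P' : Subgroup G) : Subgroup G) : Set G))
          (by exact_mod_cast hlt) (Set.toFinite _)
      have h1 := hcardle ((S : Subgroup G) ⊓ (P' : Subgroup G))
      have h2 := ih (Nat.card G - Nat.card ↥((S : Subgroup G) ⊓ (P' : Subgroup G))) (by omega) S P' hSP' rfl
      apply hR
      rw [eq_bot_iff]
      rw [← h2]
      exact le_inf hRS hRP'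
    have hneP : R ≠ (P : Subgroup G) := by
      intro h
      apply hPQ
      have hPQle : (P : Subgroup G) ≤ (Q : Subgroup G) := by rw [← h]; exact hRQ
      have hcard : Nat.card ↥(P : Subgroup G) = Nat.card ↥(Q : Subgroup G) := by
        rw [Sylow.card_eq_multiplicity, Sylow.card_eq_multiplicity]
      exact Sylow.ext (Subgroup.eq_of_le_of_card_ge hPQle hcard.ge)
    have hneQ : R ≠ (Q : Subgroup G) := by
      intro h
      apply hPQ
      have hQPle : (Q : Subgroup G) ≤ (P : Subgroup G) := by rw [← h]; exact hRP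
      have hcard : Nat.card ↥(P : Subgroup G) = Nat.card ↥(Q : Subgroup G) := by
        rw [Sylow.card_eq_multiplicity, Sylow.card_eq_multiplicity]
      exact (Sylow.ext (Subgroup.eq_of_le_of_card_ge hQPle hcard.le)).symm
    exact hPQ ((key P hRP hneP).symm.trans (key Q hRQ hneQ))

/-- [SylowTI] -/
theorem main : Cfsg.Agent.Lib.Helper25.BSWSpec.SylowTI.{u} := by
  intro G _ _ p hp hyp P Q hPQ
  haveI : Fact p.Prime := ⟨hp⟩
  exact sylowTI_aux p hyp _ P Q hPQ rfl

end Cfsg.Agent.Lib.Helper21.BSWSylowTI
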