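import Mathlib
import Cfsg.Agent.Lib.Helper80.BTStmt

/-!
S0997 piece MODP (helper21, second seat): in type II with `q = 2`, `θ(1) = g₀ = p - e` and
`|Syl_p(G)| * (p e) = |G| = p 2^b g₀`, Sylow's congruence gives `p ∣ 2^b + 1`.
-/

set_option autoImplicit false

namespace Cfsg.Agent.Lib.Helper21.BTMODP

open Cfsg Cfsg.Agent.Lib.Helper80

universe u

theorem main : BTStmt.MODP.{u} := by
  intro G _ _ p b g₀ hH c hY hII hLoc hdeg
  obtain ⟨hsimple, hncyc, hp, hq, hpq, hcard, hg⟩ := hH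
  haveI : Fact p.Prime := ⟨hp⟩
  obtain ⟨θ, hθ⟩ := hY.1
  have hfe : charDegree (θ : G → ℂ) + c.e = p := hII.2 θ hθ
  have hf : charDegree (θ : G → ℂ) = g₀ := hdeg θ hθ
  have hf2 : 2 ≤ charDegree (θ : G → ℂ) := (hY.2 θ hθ).2.2.1
  have hge : g₀ + c.e = p := hf ▸ hfe
  have hL := hLoc.2
  rw [hcard] at hL
  have h1 : Nat.card (Sylow p G) * c.e = 2 ^ b * g₀ := by
    have h' : p * (Nat.card (Sylow p G) * c.e) = p * (2 ^ b * g₀) := by
      rw [← mul_assoc p (2 ^ b) g₀, ← hL]; ring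
    exact Nat.eq_of_mul_eq_mul_left hp.pos h'
  have hn : Nat.card (Sylow p G) ≡ 1 [MOD p] := card_sylow_modEq_one p G
  have h2 : p ∣ c.e * (2 ^ b + 1) := by
    have h3 : Nat.card (Sylow p G) * c.e ≡ 1 * c.e [MOD p] := hn.mul_right _
    rw [h1, one_mul] at h3
    have h4 : 2 ^ b * g₀ + 2 ^ b * c.e ≡ c.e + 2 ^ b * c.e [MOD p] := h3.add_right _
    have h5 : 2 ^ b * g₀ + 2 ^ b * c.e = 2 ^ b * p := by rw [← mul_add, hge]
    rw [h5] at h4
    have h6 : c.e + 2 ^ b * c.e = c.e * (2 ^ b + 1) := by ring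
    rw [h6] at h4
    have h7 : 2 ^ b * p ≡ 0 [MOD p] := Nat.modEq_zero_iff_dvd.mpr (Dvd.intro_left _ rfl)
    exact Nat.modEq_zero_iff_dvd.mp (h4.symm.trans h7)
  have he_pos : 0 < c.e := by
    rcases Nat.eq_zero_or_pos c.e with h0 | h0
    · rw [h0, mul_zero] at h1
      have hpos : 0 < 2 ^ b * g₀ := Nat.mul_pos (pow_pos (by norm_num) b) (by omega)
      omega
    · exact h0
  rcases (Nat.Prime.dvd_mul hp).mp h2 with h | h
  · have hle := Nat.le_of_dvd he_pos h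
    omega
  · exact h

end Cfsg.Agent.Lib.Helper21.BTMODP
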