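import Mathlib
import Cfsg.Agent.Lib.Helper80.BTStmt

/-!
S0997 piece NT3 (helper21, second seat): if `(p - 1)(p + 1) = 2 q^b g₀` with `p ≠ q` primes,
`p` odd and `g₀ < p - 1`, then `p = 2^m ± 1`.
-/

set_option autoImplicit false

namespace Cfsg.Agent.Lib.Helper21.BTNT3

open Cfsg.Agent.Lib.Helper80

theorem c_eq_one {P c X : ℕ} (hX : 0 < X) (h : X = P * c) (hlt : X < 2 * P) : c = 1 := by
  have hcpos : 0 < c := by
    rcases Nat.eq_zero_or_pos c with h0 | h0
    · rw [h0, mul_zero] at h; omega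
    · exact h0
  by_contra hne
  have h2 : 2 ≤ c := by omega
  have h3 : P * 2 ≤ P * c := Nat.mul_le_mul_left _ h2
  omega

theorem main : BTStmt.NT3 := by
  intro p q b g₀ hp hq hpq hp2 h hg
  obtain ⟨A, rfl⟩ := hp.odd_of_ne_two hp2
  have hA : 1 ≤ A := by
    by_contra hA0
    have hA' : A = 0 := by omega
    subst hA'
    exact Nat.not_prime_one hp
  have h1 : q ^ b * g₀ = 2 * A * (A + 1) := by
    have e : (2 * A + 1 - 1) * (2 * A + 1 + 1) = 2 * (2 * A * (A + 1)) := by
      rw [Nat.add_sub_cancel]; ring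
    rw [e] at h
    exact (Nat.eq_of_mul_eq_mul_left (by norm_num) h).symm
  have hg' : g₀ < 2 * A := by omega
  have hQ : A + 2 ≤ q ^ b := by
    by_contra hcon
    have hle : q ^ b ≤ A + 1 := by omega
    have hlt : q ^ b * g₀ < 2 * A * (A + 1) := by
      calc q ^ b * g₀ ≤ (A + 1) * g₀ := Nat.mul_le_mul_right _ hle
        _ < (A + 1) * (2 * A) := Nat.mul_lt_mul_of_pos_left hg' (by omega)
        _ = 2 * A * (A + 1) := by ring
    omega
  have hdvd : q ^ b ∣ 2 * A * (A + 1) := Dvd.intro _ h1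
  by_cases hq2 : q = 2
  · subst hq2
    rcases Nat.even_or_odd A with hAe | hAo
    · have hc : Nat.Coprime (2 ^ b) (A + 1) :=
        Nat.Coprime.pow_left _ ((Nat.Prime.coprime_iff_not_dvd Nat.prime_two).mpr
          hAe.add_one.not_two_dvd_nat)
      obtain ⟨c, hc'⟩ := hc.dvd_of_dvd_mul_right hdvd
      have hc1 : c = 1 := c_eq_one (by omega) hc' (by omega)
      refine ⟨b, Or.inl ?_⟩
      rw [hc1, mul_one] at hc'
      omega
    · have hc : Nat.Coprime (2 ^ b) A :=
        Nat.Coprime.pow_left _ ((Nat.Prime.coprime_iff_not_dvd Nat.prime_two).mpr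
          hAo.not_two_dvd_nat)
      have hdvd' : 2 ^ b ∣ 2 * (A + 1) * A := by
        rw [show 2 * (A + 1) * A = 2 * A * (A + 1) by ring]
        exact hdvd
      obtain ⟨c, hc'⟩ := hc.dvd_of_dvd_mul_right hdvd'
      have hc1 : c = 1 := c_eq_one (by omega) hc' (by omega)
      refine ⟨b, Or.inr ?_⟩
      rw [hc1, mul_one] at hc'
      omega
  · exfalso
    have hq2c : Nat.Coprime (q ^ b) 2 :=
      Nat.Coprime.pow_left _ ((Nat.coprime_primes hq Nat.prime_two).mpr hq2)
    have hdvd' : q ^ b ∣ A * (A + 1) := by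
      have h' : q ^ b ∣ 2 * (A * (A + 1)) := by rw [← mul_assoc]; exact hdvd
      exact hq2c.dvd_of_dvd_mul_left h'
    by_cases hqA : q ∣ A
    · have hnot : ¬ q ∣ A + 1 := by
        intro h'
        have h1' := (Nat.dvd_add_right hqA).mp h'
        exact hq.one_lt.ne' (Nat.dvd_one.mp h1')
      have hc : Nat.Coprime (q ^ b) (A + 1) :=
        Nat.Coprime.pow_left _ ((Nat.Prime.coprime_iff_not_dvd hq).mpr hnot)
      have hd : q ^ b ∣ A := hc.dvd_of_dvd_mul_right hdvd'
      have hle := Nat.le_of_dvd (by omega) hd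
      omega
    · have hc : Nat.Coprime (q ^ b) A :=
        Nat.Coprime.pow_left _ ((Nat.Prime.coprime_iff_not_dvd hq).mpr hqA)
      have hd : q ^ b ∣ A + 1 := hc.dvd_of_dvd_mul_left hdvd'
      have hle := Nat.le_of_dvd (by omega) hd
      omega

end Cfsg.Agent.Lib.Helper21.BTNT3
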