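import Mathlib
import Cfsg.Agent.Lib.Helper88.CESStmt
import Cfsg.Agent.Lib.Helper87.FSSat
import Cfsg.Agent.Lib.Helper30.WNWSYL

/-!
S5127 piece LGNU (helper21).  `T` strongly closed, `Y = R' C_T(R')` fully automized with
`Y ∩ T ≤ C_T(R')`, `t ∈ N_T(Y)`, `μ` a map of `F` on `Y`, the identity on `C_T(R')` and mapping
`R'` into `C_S(T)`.  Then `μ⁻¹ c_t μ` is induced by an element of `S`.
-/

set_option autoImplicit false

namespace Cfsg.Agent.Lib.Helper21.CELGNU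

open Cfsg Cfsg.FusionSystem Cfsg.Agent.Lib.Helper88

universe u

/-- The abstract form: `μ` is the identity on `Y ∩ T` and `t ∈ N_T(Y)` normalizes `μ(Y)`. -/
theorem core {Ω : Type u} [Group Ω] {S : Subgroup Ω} [Finite S] (p : ℕ) [Fact p.Prime]
    (hS : IsPGroup p S) (F : FusionSystem S) (T : Subgroup Ω) (hTsc : F.StronglyClosed T)
    (Y : Subgroup Ω) (hfa : F.IsFullyAutomized p Y)
    (t : Ω) (htT : t ∈ T) (htN : t ∈ Subgroup.normalizer (Y : Set Ω))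
    (μ : Y →* Ω) (hμ : μ ∈ F.Hom Y)
    (hμT : ∀ y : Y, (y : Ω) ∈ T → μ y = y)
    (hμN : ∀ y : Y, t⁻¹ * μ y * t ∈ μ.range) :
    ∃ g ∈ S, ∀ y : Y, ∃ y' : Y, (y' : Ω) = g * (y : Ω) * g⁻¹ ∧ μ y' = t * μ y * t⁻¹ := by
  have hTS : T ≤ S := hTsc.1
  have hYS : Y ≤ S := (F.le_of_mem hμ).1
  have htS : t ∈ S := hTS htT
  have hTn : ∀ s ∈ S, ∀ x ∈ T, s * x * s⁻¹ ∈ T := by
    intro s hs x hx
    exact hTsc.2 T le_rfl (conjHom T s) (F.conj_mem hTS hs) ⟨x, hx⟩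
  have hMS : μ.range ≤ S := by
    rintro _ ⟨x, rfl⟩
    exact (F.le_of_mem hμ).2 x
  have hμmem : ∀ x : Y, μ x ∈ μ.range := fun x => ⟨x, rfl⟩
  -- `η₀ = c_{t⁻¹} ∘ μ`
  have hη₀ : (conjHom μ.range t⁻¹).comp (μ.codRestrict μ.range hμmem) ∈ F.Hom Y :=
    F.comp_mem hμ (F.conj_mem hMS (S.inv_mem htS)) hμmem
  have hη₀M : ∀ y : Y, ((conjHom μ.range t⁻¹).comp (μ.codRestrict μ.range hμmem)) y ∈ μ.range := by
    intro y
    show t⁻¹ * μ y * t⁻¹⁻¹ ∈ μ.range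
    rw [inv_inv]
    exact hμN y
  -- `η = μ⁻¹ ∘ c_{t⁻¹} ∘ μ`
  obtain ⟨ψ, hψ, hψx⟩ := F.inv_mem hμ
  have hη : ψ.comp (((conjHom μ.range t⁻¹).comp (μ.codRestrict μ.range hμmem)).codRestrict
      μ.range hη₀M) ∈ F.Hom Y := F.comp_mem hη₀ hψ hη₀M
  set η : Y →* Ω := ψ.comp (((conjHom μ.range t⁻¹).comp
    (μ.codRestrict μ.range hμmem)).codRestrict μ.range hη₀M) with hηdef
  have key : ∀ y : Y, ∃ z : Y, η y = (z : Ω) ∧ μ z = t⁻¹ * μ y * t := by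
    intro y
    obtain ⟨z, hz⟩ := hη₀M y
    refine ⟨z, ?_, ?_⟩
    · have e : (((conjHom μ.range t⁻¹).comp (μ.codRestrict μ.range hμmem)).codRestrict
          μ.range hη₀M y) = ⟨μ z, ⟨z, rfl⟩⟩ := Subtype.ext hz.symm
      show ψ (((conjHom μ.range t⁻¹).comp (μ.codRestrict μ.range hμmem)).codRestrict
          μ.range hη₀M y) = z
      rw [e]
      exact hψx z
    · rw [hz]
      show t⁻¹ * μ y * t⁻¹⁻¹ = _
      rw [inv_inv]
  have hηY : ∀ y : Y, η y ∈ Y := by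
    intro y
    obtain ⟨z, hz, -⟩ := key y
    rw [hz]
    exact z.2
  -- `ξ = c_t ∘ η`
  have hξ₀ : (conjHom Y t).comp (η.codRestrict Y hηY) ∈ F.Hom Y :=
    F.comp_mem hη (F.conj_mem hYS htS) hηY
  have hξ₀Y : ∀ y : Y, ((conjHom Y t).comp (η.codRestrict Y hηY)) y ∈ Y := by
    intro y
    show t * η y * t⁻¹ ∈ Y
    exact (Subgroup.mem_normalizer_iff.mp htN (η y)).mp (hηY y)
  have hinj : Function.Injective (((conjHom Y t).comp (η.codRestrict Y hηY)).codRestrict Y hξ₀Y) := by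
    intro a b hab
    exact F.injective_of_mem hξ₀ (congrArg Subtype.val hab)
  haveI : Finite Y := Cfsg.Agent.Lib.Helper87.FSSat.finite_of_le hYS
  set ξ : MulAut Y := MulEquiv.ofBijective
    (((conjHom Y t).comp (η.codRestrict Y hηY)).codRestrict Y hξ₀Y)
    ⟨hinj, Finite.surjective_of_injective hinj⟩ with hξdef
  have hξval : ∀ y : Y, ((ξ y : Y) : Ω) = t * η y * t⁻¹ := fun y => rfl
  have hξmem : ξ ∈ F.autGroup Y :=
    (Cfsg.Agent.H85.mem_autGroup_iff F hYS ξ).mpr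
      (Cfsg.Agent.H85.hom_congr F hξ₀ (fun x => rfl))
  -- the hypotheses of WSYL
  have h1 : ∀ x : Y, (x : Ω) ∈ T → ξ x = x := by
    intro x hx
    apply Subtype.ext
    rw [hξval]
    obtain ⟨z, hz1, hz2⟩ := key x
    have hw : t⁻¹ * (x : Ω) * t ∈ Y := by
      have h := (Subgroup.mem_normalizer_iff.mp (Subgroup.inv_mem _ htN) (x : Ω)).mp x.2
      rwa [inv_inv] at h
    have hwT : t⁻¹ * (x : Ω) * t ∈ T := T.mul_mem (T.mul_mem (T.inv_mem htT) hx) htT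
    have hμw := hμT ⟨_, hw⟩ hwT
    have hzw : z = ⟨_, hw⟩ := F.injective_of_mem hμ (by rw [hz2, hμw, hμT x hx])
    rw [hz1, hzw]
    show t * (t⁻¹ * (x : Ω) * t) * t⁻¹ = x
    group
  have h2 : ∀ y : Y, (y : Ω)⁻¹ * ((ξ y : Y) : Ω) ∈ T ∧ ∀ x : Y, (x : Ω) ∈ T →
      (y : Ω)⁻¹ * ((ξ y : Y) : Ω) * (x : Ω) = (x : Ω) * ((y : Ω)⁻¹ * ((ξ y : Y) : Ω)) := by
    intro y
    have hyS : (y : Ω) ∈ S := hYS y.2
    obtain ⟨z, hz1, hz2⟩ := key y
    have hw : ((y⁻¹ * z : Y) : Ω) ∈ T := by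
      have hμw : μ (y⁻¹ * z) ∈ T := by
        rw [map_mul, map_inv, hz2]
        have h := hTn (μ y)⁻¹ (S.inv_mem ((F.le_of_mem hμ).2 y)) t⁻¹ (T.inv_mem htT)
        have e : (μ y)⁻¹ * (t⁻¹ * μ y * t) = ((μ y)⁻¹ * t⁻¹ * ((μ y)⁻¹)⁻¹) * t := by group
        rw [e]
        exact T.mul_mem h htT
      have hQ : Subgroup.zpowers (μ (y⁻¹ * z)) ≤ μ.range := by
        rw [Subgroup.zpowers_le]
        exact ⟨_, rfl⟩
      obtain ⟨ψ', hψ', hψ'x⟩ := Cfsg.Agent.H85.inv_mem' F hμ hQ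
      have hQT : Subgroup.zpowers (μ (y⁻¹ * z)) ≤ T := by
        rw [Subgroup.zpowers_le]
        exact hμw
      have h := hTsc.2 _ hQT ψ' hψ' ⟨μ (y⁻¹ * z), Subgroup.mem_zpowers _⟩
      rw [hψ'x (y⁻¹ * z) (Subgroup.mem_zpowers _)] at h
      exact h
    have hfirst : (y : Ω)⁻¹ * ((ξ y : Y) : Ω) ∈ T := by
      rw [hξval, hz1]
      have e : (y : Ω)⁻¹ * (t * (z : Ω) * t⁻¹) =
          ((y : Ω)⁻¹ * t * ((y : Ω)⁻¹)⁻¹) * ((y : Ω)⁻¹ * (z : Ω)) * t⁻¹ := by group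
      rw [e]
      exact T.mul_mem (T.mul_mem (hTn _ (S.inv_mem hyS) t htT) hw) (T.inv_mem htT)
    refine ⟨hfirst, fun x hx => ?_⟩
    have hx' : ((y * x * y⁻¹ : Y) : Ω) ∈ T := hTn y hyS x hx
    have e1 := h1 (y * x * y⁻¹) hx'
    rw [map_mul, map_mul, map_inv, h1 x hx] at e1
    have e2 : ((ξ y : Y) : Ω) * (x : Ω) * ((ξ y : Y) : Ω)⁻¹ = (y : Ω) * (x : Ω) * (y : Ω)⁻¹ :=
      congrArg Subtype.val e1
    calc (y : Ω)⁻¹ * ((ξ y : Y) : Ω) * (x : Ω)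
        = (y : Ω)⁻¹ * (((ξ y : Y) : Ω) * (x : Ω) * ((ξ y : Y) : Ω)⁻¹) * ((ξ y : Y) : Ω) := by
          group
      _ = (y : Ω)⁻¹ * ((y : Ω) * (x : Ω) * (y : Ω)⁻¹) * ((ξ y : Y) : Ω) := by rw [e2]
      _ = (x : Ω) * ((y : Ω)⁻¹ * ((ξ y : Y) : Ω)) := by group
  obtain ⟨h, hhS, hh⟩ := Cfsg.Agent.Lib.Helper30.WNWSYL.main p hS F T hTsc Y hfa ξ hξmem h1 h2
  refine ⟨h⁻¹ * t, S.mul_mem (S.inv_mem hhS) htS, fun y => ?_⟩
  have hty : t * (y : Ω) * t⁻¹ ∈ Y := (Subgroup.mem_normalizer_iff.mp htN y).mp y.2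
  obtain ⟨w, hw⟩ := ξ.surjective ⟨_, hty⟩
  have hw' : t * η w * t⁻¹ = t * (y : Ω) * t⁻¹ := by
    rw [← hξval]
    exact congrArg Subtype.val hw
  have hηw : η w = y := mul_left_cancel (mul_right_cancel hw')
  obtain ⟨z, hz1, hz2⟩ := key w
  have hzy : z = y := Subtype.ext (hz1.symm.trans hηw)
  refine ⟨w, ?_, ?_⟩
  · have h3 : h * (w : Ω) * h⁻¹ = t * (y : Ω) * t⁻¹ := by
      rw [← hh w]
      exact congrArg Subtype.val hw
    calc (w : Ω) = h⁻¹ * (h * (w : Ω) * h⁻¹) * h := by group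
      _ = h⁻¹ * (t * (y : Ω) * t⁻¹) * h := by rw [h3]
      _ = h⁻¹ * t * (y : Ω) * (h⁻¹ * t)⁻¹ := by group
  · rw [hzy] at hz2
    rw [hz2]
    group

theorem main : CESStmt.LemGNu.{u} := by
  intro Ω _ S _ p _ hS F hsat T hTsc R' hR'S hcap hfa t ht μ hμ hμc hμr
  have htT : t ∈ T := ht.1
  have htN : t ∈ Subgroup.normalizer ((R' ⊔ centralizerIn T R' : Subgroup Ω) : Set Ω) := ht.2
  have hμT : ∀ y : ↥(R' ⊔ centralizerIn T R'), (y : Ω) ∈ T → μ y = y := by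
    intro y hy
    have hc := hcap y y.2 hy
    exact hμc ⟨y, hc⟩
  have hμN : ∀ y : ↥(R' ⊔ centralizerIn T R'), t⁻¹ * μ y * t ∈ μ.range := by
    have hle : (R'.subgroupOf (R' ⊔ centralizerIn T R')) ⊔
        ((centralizerIn T R').subgroupOf (R' ⊔ centralizerIn T R')) ≤
        μ.range.comap ((MulAut.conj t⁻¹).toMonoidHom.comp μ) := by
      refine sup_le ?_ ?_
      · intro y hy
        have hy' : (y : Ω) ∈ R' := Subgroup.mem_subgroupOf.mp hy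
        have hcen : μ y ∈ Subgroup.centralizer (T : Set Ω) := (hμr ⟨y, hy'⟩).2
        rw [Subgroup.mem_centralizer_iff] at hcen
        have h1 := hcen t htT
        show t⁻¹ * μ y * t⁻¹⁻¹ ∈ μ.range
        have e : t⁻¹ * μ y * t⁻¹⁻¹ = μ y := by
          rw [inv_inv, mul_assoc, ← h1, inv_mul_cancel_left]
        rw [e]
        exact ⟨y, rfl⟩
      · intro y hy
        have hy' : (y : Ω) ∈ centralizerIn T R' := Subgroup.mem_subgroupOf.mp hy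
        have hyT : (y : Ω) ∈ T := hy'.1
        have hw : t⁻¹ * (y : Ω) * t ∈ R' ⊔ centralizerIn T R' := by
          have h := (Subgroup.mem_normalizer_iff.mp (Subgroup.inv_mem _ htN) (y : Ω)).mp y.2
          rwa [inv_inv] at h
        have hwT : t⁻¹ * (y : Ω) * t ∈ T := T.mul_mem (T.mul_mem (T.inv_mem htT) hyT) htT
        show t⁻¹ * μ y * t⁻¹⁻¹ ∈ μ.range
        rw [inv_inv, hμT y hyT]
        exact ⟨⟨_, hw⟩, hμT ⟨_, hw⟩ hwT⟩
    intro y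
    have hy : y ∈ (R'.subgroupOf (R' ⊔ centralizerIn T R')) ⊔
        ((centralizerIn T R').subgroupOf (R' ⊔ centralizerIn T R')) := by
      have hcod := Subgroup.codisjoint_subgroupOf_sup R' (centralizerIn T R')
      rw [codisjoint_iff] at hcod
      rw [hcod]
      exact Subgroup.mem_top y
    have h := hle hy
    have h' : t⁻¹ * μ y * t⁻¹⁻¹ ∈ μ.range := h
    rwa [inv_inv] at h'
  exact core p hS F T hTsc _ hfa t htT htN μ hμ hμT hμN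

end Cfsg.Agent.Lib.Helper21.CELGNU
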