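import Mathlib
import Cfsg.Agent.Lib.Helper31.ECStmt
import Cfsg.Agent.Lib.Helper47.PRes

set_option autoImplicit false

namespace Cfsg.Agent.Lib.Helper21.ECABPERF

universe u

open Cfsg

/-- the elements of order prime to `p` in a commutative group form a subgroup -/
def cop (A : Type*) [CommGroup A] (p : ℕ) : Subgroup A where
  carrier := {a | (orderOf a).Coprime p}
  one_mem' := by simp
  mul_mem' := fun {a b} ha hb => by
    have h1 : orderOf (a * b) ∣ orderOf a * orderOf b :=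
      (Commute.all a b).orderOf_mul_dvd_mul_orderOf
    exact Nat.Coprime.coprime_dvd_left h1 (Nat.Coprime.mul_left ha hb)
  inv_mem' := fun {a} ha => by
    show (orderOf a⁻¹).Coprime p
    rw [orderOf_inv]; exact ha

theorem main : Cfsg.Agent.Lib.Helper31.ECStmt.ABPERF.{u} := by
  intro G _ _ p _ L x hx hn
  obtain ⟨n, hn⟩ := hn
  have hMcl : (Cfsg.pResidual p ↥L).map L.subtype
      = Subgroup.closure {y : G | y ∈ L ∧ (orderOf y).Coprime p} :=
    Cfsg.Agent.Lib.Helper47.PRes.pResOf_eq_closure p L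
  generalize (Cfsg.pResidual p ↥L).map L.subtype = M at hx hMcl ⊢
  have key : ∀ y ∈ Subgroup.closure {y : G | y ∈ L ∧ (orderOf y).Coprime p},
      ∀ hy : y ∈ M, (Abelianization.of ⟨y, hy⟩ : Abelianization ↥M) ∈ cop (Abelianization ↥M) p := by
    intro y hy
    induction hy using Subgroup.closure_induction with
    | mem y hy =>
      intro hyM
      show (orderOf (Abelianization.of (⟨y, hyM⟩ : ↥M))).Coprime p
      have h1 : orderOf (Abelianization.of (⟨y, hyM⟩ : ↥M)) ∣ orderOf (⟨y, hyM⟩ : ↥M) :=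
        orderOf_map_dvd _ _
      have h2 : orderOf (⟨y, hyM⟩ : ↥M) = orderOf y := Subgroup.orderOf_mk y hyM
      rw [h2] at h1
      exact Nat.Coprime.coprime_dvd_left h1 hy.2
    | one =>
      intro h1
      have : (⟨1, h1⟩ : ↥M) = 1 := rfl
      rw [this, map_one]
      exact Subgroup.one_mem _
    | mul a b ha hb iha ihb =>
      intro hab
      have haM : a ∈ M := hMcl ▸ ha
      have hbM : b ∈ M := hMcl ▸ hb
      have : (⟨a * b, hab⟩ : ↥M) = ⟨a, haM⟩ * ⟨b, hbM⟩ := rfl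
      rw [this, map_mul]
      exact Subgroup.mul_mem _ (iha haM) (ihb hbM)
    | inv a ha iha =>
      intro hai
      have haM : a ∈ M := hMcl ▸ ha
      have : (⟨a⁻¹, hai⟩ : ↥M) = (⟨a, haM⟩ : ↥M)⁻¹ := rfl
      rw [this, map_inv]
      exact Subgroup.inv_mem _ (iha haM)
  have hxT : (orderOf (Abelianization.of (⟨x, hx⟩ : ↥M))).Coprime p := key x (hMcl ▸ hx) hx
  have hpow : (Abelianization.of (⟨x, hx⟩ : ↥M)) ^ p ^ n = 1 := by
    rw [← map_pow]
    have : (⟨x, hx⟩ : ↥M) ^ p ^ n = 1 := Subtype.ext (by simpa using hn)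
    rw [this, map_one]
  have h1 : orderOf (Abelianization.of (⟨x, hx⟩ : ↥M)) = 1 :=
    Nat.Coprime.eq_one_of_dvd (hxT.pow_right n) (orderOf_dvd_of_pow_eq_one hpow)
  have h2 : (Abelianization.of (⟨x, hx⟩ : ↥M)) = 1 := orderOf_eq_one_iff.mp h1
  have h3 : (⟨x, hx⟩ : ↥M) ∈ commutator ↥M := by
    rw [← Abelianization.ker_of]; exact h2
  rw [← Subgroup.map_subtype_commutator M]
  exact ⟨⟨x, hx⟩, h3, rfl⟩

end Cfsg.Agent.Lib.Helper21.ECABPERF
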