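import Mathlib
import Cfsg.Agent.Lib.Helper31.ECStmt
import Cfsg.Agent.Lib.Helper47.PRes

set_option autoImplicit false

namespace Cfsg.Agent.Lib.Helper21.ECYGEN

universe u

open Cfsg

theorem main : Cfsg.Agent.Lib.Helper31.ECStmt.YGEN.{u} := by
  intro X _ _ p _ N D R hperf hres hN hND hcomm hR
  -- the quotient X ⧸ N
  have hRbar : IsPGroup p ↥(R.map (QuotientGroup.mk' N)) := hR.map _
  -- commutator (X ⧸ N) ≤ image of R
  have hle : commutator (X ⧸ N) ≤ R.map (QuotientGroup.mk' N) := by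
    rw [commutator_def, Subgroup.commutator_le]
    intro a _ b _
    obtain ⟨x, rfl⟩ := QuotientGroup.mk_surjective a
    obtain ⟨y, rfl⟩ := QuotientGroup.mk_surjective b
    have hy : y ∈ N ⊔ D := by rw [hND]; exact Subgroup.mem_top y
    have hnorm : D ≤ Subgroup.normalizer (N : Set X) := by
      rw [Subgroup.normalizer_eq_top_iff.mpr hN]; exact le_top
    obtain ⟨n, hn, d, hd, rfl⟩ :=
      Cfsg.Agent.Lib.Helper47.Syl.exists_mul_of_mem_sup_right hnorm hy
    have h1 : ((n * d : X) : X ⧸ N) = ((d : X) : X ⧸ N) := by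
      rw [QuotientGroup.mk_mul, (QuotientGroup.eq_one_iff n).mpr hn, one_mul]
    rw [h1]
    refine ⟨x * d * x⁻¹ * d⁻¹, hcomm x d hd, ?_⟩
    simp [commutatorElement_def]
  have hperf' : commutator (X ⧸ N) = ⊤ := by
    have h1 : commutator (X ⧸ N) = (commutator X).map (QuotientGroup.mk' N) := by
      rw [commutator_def, commutator_def, Subgroup.map_commutator,
        ← MonoidHom.range_eq_map, MonoidHom.range_eq_top.mpr (QuotientGroup.mk'_surjective N)]
    rw [h1, hperf.commutator_eq_top, ← MonoidHom.range_eq_map,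
      MonoidHom.range_eq_top.mpr (QuotientGroup.mk'_surjective N)]
  have hpow : ∀ x : X, ∃ k : ℕ, x ^ p ^ k ∈ N := by
    intro x
    have hx : ((x : X) : X ⧸ N) ∈ R.map (QuotientGroup.mk' N) := by
      apply hle; rw [hperf']; exact Subgroup.mem_top _
    obtain ⟨k, hk⟩ := hRbar ⟨_, hx⟩
    refine ⟨k, ?_⟩
    have hk' : ((x : X) : X ⧸ N) ^ p ^ k = 1 := by
      have := congrArg Subtype.val hk
      simpa using this
    rw [← QuotientGroup.mk_pow] at hk'
    exact (QuotientGroup.eq_one_iff _).mp hk'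
  have hres' : Cfsg.pResidual p X ≤ N := by
    unfold Cfsg.pResidual
    rw [Subgroup.closure_le]
    intro y hy
    obtain ⟨k, hk⟩ := hpow y
    exact Cfsg.Agent.Lib.Helper47.PRes.coprime_mem_of_pow_mem hy hk
  rw [hres] at hres'
  exact top_le_iff.mp hres'

end Cfsg.Agent.Lib.Helper21.ECYGEN
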