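import Mathlib
import Cfsg.Agent.Lib.Helper94.OPStmt
import Cfsg.Agent.Lib.Helper29.HypDIMOBS
import Cfsg.Agent.Lib.Helper21.OPDIMOBSP

/-!
# S5989 / NEGSQNOFIX (call by helper94; helper21, second seat)

An isometry `x` of the plus form with `x * x = -1` stabilises no nondegenerate subspace of odd
dimension: `(u, v) ↦ B (x u, v)` is skew-symmetric and nondegenerate on such a subspace.
-/

set_option autoImplicit false

universe u

open scoped Matrix

namespace Cfsg.Agent.Lib.Helper21.OPNEGSQNOFIX

open Cfsg.Agent.Lib.Helper94.OPStmt Cfsg.Agent.Lib.Helper29.HypDIMOBS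
open Cfsg.Agent.Lib.Helper21.OPDIMOBSP

theorem main : NegSqNoFix.{u} := by
  intro F _ _ hq d m hm x hx hxx W hWm hWn hWs
  classical
  have h2 : (2 : F) ≠ 0 := two_ne_zero_of_odd_card hq
  obtain ⟨A, hAdef⟩ : ∃ A : (P d → F) →ₗ[F] (P d → F),
      A = Matrix.toLin' (x : Matrix (P d) (P d) F) := ⟨_, rfl⟩
  have hAv : ∀ v, A v = (x : Matrix (P d) (P d) F) *ᵥ v := by
    intro v; rw [hAdef, Matrix.toLin'_apply]
  have hAA : ∀ v, A (A v) = -v := by
    intro v
    rw [hAv, hAv, Matrix.mulVec_mulVec, hxx, Matrix.neg_mulVec, Matrix.one_mulVec]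
  have hQ : ∀ v, plusQF d F (A v) = plusQF d F v := by
    intro v
    rw [hAv]
    exact hx v v
  have hW : ∀ w ∈ W, A w ∈ W := by
    intro w hw
    rw [hAdef]
    exact hWs (Submodule.mem_map_of_mem hw)
  obtain ⟨Q, hQdef⟩ : ∃ Q : QuadraticForm F (P d → F), Q = plusQF d F := ⟨_, rfl⟩
  rw [← hQdef] at hQ
  have hB : ∀ u v, QuadraticMap.polar Q (A u) (A v) = QuadraticMap.polar Q u v := by
    intro u v
    simp only [QuadraticMap.polar, ← map_add, hQ]
  have hnd : ∀ w ∈ W, w ≠ 0 → ∃ y ∈ W, QuadraticMap.polar Q y w ≠ 0 := by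
    intro w hw hw0
    rw [hQdef]
    exact (hWn w hw hw0).1
  let b : Module.Basis (Fin m) F W := (Module.finBasis F W).reindex (finCongr hWm)
  let M : Matrix (Fin m) (Fin m) F := fun j k =>
    QuadraticMap.polar Q (A (b j : P d → F)) (b k : P d → F)
  have hMs : Mᵀ = -M := by
    ext j k
    rw [Matrix.transpose_apply, Matrix.neg_apply]
    show QuadraticMap.polar Q (A (b k : P d → F)) (b j : P d → F)
      = -QuadraticMap.polar Q (A (b j : P d → F)) (b k : P d → F)
    rw [← hB (A (b k : P d → F)) (b j : P d → F), hAA, QuadraticMap.polar_neg_left,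
      QuadraticMap.polar_comm]
  have hMd : M.det ≠ 0 := by
    intro h0
    obtain ⟨c, hc, hMc⟩ := Matrix.exists_mulVec_eq_zero_iff.mpr h0
    apply hc
    obtain ⟨u, hu⟩ : ∃ u : W, u = ∑ k, c k • b k := ⟨_, rfl⟩
    have huW : (u : P d → F) ∈ W := u.2
    have h1 : ∀ j, Q.polarBilin (A (b j : P d → F)) (u : P d → F) = 0 := by
      intro j
      have hj := congrFun hMc j
      rw [hu]
      simp only [Submodule.coe_sum, Submodule.coe_smul, map_sum, map_smul]
      simp only [Matrix.mulVec, dotProduct, Pi.zero_apply, M] at hj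
      rw [← hj]
      refine Finset.sum_congr rfl (fun k _ => ?_)
      rw [QuadraticMap.polarBilin_apply_apply, smul_eq_mul, mul_comm]
    have h2' : ∀ v ∈ W, QuadraticMap.polar Q (A v) (u : P d → F) = 0 := by
      intro v hv
      let ψ : W →ₗ[F] F := (Q.polarBilin.flip (u : P d → F)) ∘ₗ A ∘ₗ W.subtype
      have hψ : ψ = 0 := by
        apply b.ext
        intro j
        simp only [ψ, LinearMap.comp_apply, Submodule.subtype_apply, LinearMap.flip_apply,
          LinearMap.zero_apply]
        exact h1 j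
      have := congrArg (fun g : W →ₗ[F] F => g ⟨v, hv⟩) hψ
      simpa [ψ] using this
    have hu0 : (u : P d → F) = 0 := by
      by_contra hne
      obtain ⟨y, hy, hy0⟩ := hnd _ huW hne
      apply hy0
      have hy' : y = A (-(A y)) := by rw [map_neg, hAA, neg_neg]
      rw [hy']
      exact h2' _ (W.neg_mem (hW y hy))
    have hu0' : ∑ k, c k • b k = 0 := by
      rw [← hu]; exact Subtype.ext hu0
    funext k
    exact Fintype.linearIndependent_iff.mp b.linearIndependent c hu0' k
  have heven : Even m := even_of_skew_gram h2 M hMs hMd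
  exact (Nat.not_even_iff_odd.mpr hm) heven

end Cfsg.Agent.Lib.Helper21.OPNEGSQNOFIX
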