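import Mathlib
import Cfsg.Agent.Lib.Helper37.OrtStmt

/-!
S5981 piece PFAFF (helper21, second seat): in characteristic `≠ 2` the determinant of an
invertible skew-symmetric matrix is a square.  Induction on the size (over arbitrary finite
index types): split off a hyperbolic plane `{i, j}` with `K i j ≠ 0` and pass to the Schur
complement, which is again skew-symmetric.
-/

set_option autoImplicit false

namespace Cfsg.Agent.Lib.Helper21.OrtPFAFF

open Cfsg.Agent.Lib.Helper37
open scoped Matrix

universe u

variable {F : Type u} [Field F]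

theorem skew_apply {κ κ' : Type} (K : Matrix κ κ F) (hK : Kᵀ = -K) (i j : κ) :
    K j i = - K i j := by
  have h := congrFun (congrFun hK i) j
  simpa [Matrix.transpose_apply, Matrix.neg_apply] using h

theorem diag_zero (h2 : (2 : F) ≠ 0) {κ : Type} (K : Matrix κ κ F) (hK : Kᵀ = -K) (i : κ) :
    K i i = 0 := by
  have h := skew_apply (κ' := κ) K hK i i
  have h' : (2 : F) * K i i = 0 := by linear_combination h
  exact (mul_eq_zero.mp h').resolve_left h2

theorem det_two (h2 : (2 : F) ≠ 0) {κ : Type} [Fintype κ] [DecidableEq κ]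
    (hc : Fintype.card κ = 2) (K : Matrix κ κ F) (hK : Kᵀ = -K) (a b : κ) (hab : K a b ≠ 0) :
    ∃ μ : F, μ ≠ 0 ∧ K.det = μ ^ 2 := by
  have hne : a ≠ b := by
    rintro rfl
    exact hab (diag_zero h2 K hK a)
  let e : κ ≃ Fin 2 := Fintype.equivFinOfCardEq hc
  have hdet : K.det = (Matrix.reindex e e K).det := (Matrix.det_reindex_self e K).symm
  have h01 : e.symm 0 ≠ e.symm 1 := by
    intro h
    have := e.symm.injective h
    exact absurd this (by decide)
  have hfin : ∀ x : Fin 2, x = 0 ∨ x = 1 := by decide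
  have hcase : ∀ x : κ, x = e.symm 0 ∨ x = e.symm 1 := by
    intro x
    rcases hfin (e x) with h | h
    · left; rw [← h, e.symm_apply_apply]
    · right; rw [← h, e.symm_apply_apply]
  have hnz : K (e.symm 0) (e.symm 1) ≠ 0 := by
    rcases hcase a with ha | ha <;> rcases hcase b with hb | hb
    · exact absurd (ha.trans hb.symm) hne
    · rw [← ha, ← hb]; exact hab
    · rw [← ha, ← hb, skew_apply (κ' := κ) K hK a b]; exact neg_ne_zero.mpr hab
    · exact absurd (ha.trans hb.symm) hne
  refine ⟨K (e.symm 0) (e.symm 1), hnz, ?_⟩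
  rw [hdet, Matrix.det_fin_two]
  simp only [Matrix.reindex_apply, Matrix.submatrix_apply]
  rw [diag_zero h2 K hK, diag_zero h2 K hK, skew_apply (κ' := κ) K hK (e.symm 0) (e.symm 1)]
  ring

theorem pfaff_aux (h2 : (2 : F) ≠ 0) : ∀ (m : ℕ) (κ : Type) [Fintype κ] [DecidableEq κ],
    Fintype.card κ = m → ∀ K : Matrix κ κ F, Kᵀ = -K → K.det ≠ 0 → ∃ μ : F, K.det = μ ^ 2 := by
  intro m
  induction m using Nat.strong_induction_on with
  | _ m ih =>
    intro κ _ _ hc K hK hdet
    rcases isEmpty_or_nonempty κ with hE | ⟨⟨i⟩⟩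
    · exact ⟨1, by rw [Matrix.det_isEmpty]; ring⟩
    · have hrow : ∃ j, K i j ≠ 0 := by
        by_contra hcon
        push_neg at hcon
        exact hdet (Matrix.det_eq_zero_of_row_eq_zero i hcon)
      obtain ⟨j, hij⟩ := hrow
      have hne : i ≠ j := by
        rintro rfl
        exact hij (diag_zero h2 K hK i)
      let p : κ → Prop := fun k => k = i ∨ k = j
      haveI : DecidablePred p := fun k => inferInstanceAs (Decidable (k = i ∨ k = j))
      set A := Matrix.toBlock K p p with hA
      set B := Matrix.toBlock K p (fun k => ¬ p k) with hB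
      set C := Matrix.toBlock K (fun k => ¬ p k) p with hC
      set D := Matrix.toBlock K (fun k => ¬ p k) (fun k => ¬ p k) with hD
      have hKdet : K.det = (Matrix.fromBlocks A B C D).det := Matrix.det_toBlock K p
      have hAt : Aᵀ = -A := by
        ext x y
        exact skew_apply (κ' := κ) K hK x.1 y.1
      have hBt : Bᵀ = -C := by
        ext x y
        exact skew_apply (κ' := κ) K hK x.1 y.1
      have hCt : Cᵀ = -B := by
        ext x y
        exact skew_apply (κ' := κ) K hK x.1 y.1
      have hDt : Dᵀ = -D := by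
        ext x y
        exact skew_apply (κ' := κ) K hK x.1 y.1
      have hcard2 : Fintype.card {k // p k} = 2 := by
        rw [Fintype.card_subtype]
        have : (Finset.univ.filter fun k => p k) = {i, j} := by
          ext k
          simp [p]
        rw [this, Finset.card_pair hne]
      obtain ⟨a, ha, hAdet⟩ := det_two h2 hcard2 A hAt ⟨i, Or.inl rfl⟩ ⟨j, Or.inr rfl⟩ hij
      letI : Invertible A := Matrix.invertibleOfIsUnitDet A (by
        rw [hAdet]
        exact isUnit_iff_ne_zero.mpr (pow_ne_zero 2 ha))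
      have hsch := Matrix.det_fromBlocks₁₁ A B C D
      have hX1 : A * ⅟A = 1 := mul_invOf_self A
      have hXt : (⅟A)ᵀ = -⅟A := by
        have h1 : (⅟A)ᵀ * Aᵀ = 1 := by
          rw [← Matrix.transpose_mul, hX1, Matrix.transpose_one]
        rw [hAt, Matrix.mul_neg] at h1
        have h3 : (⅟A)ᵀ * A = -1 := by
          rw [← h1, neg_neg]
        calc (⅟A)ᵀ = (⅟A)ᵀ * (A * ⅟A) := by rw [hX1, Matrix.mul_one]
          _ = ((⅟A)ᵀ * A) * ⅟A := by rw [Matrix.mul_assoc]
          _ = -⅟A := by rw [h3, Matrix.neg_mul, Matrix.one_mul]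
      have hSt : (D - C * ⅟A * B)ᵀ = -(D - C * ⅟A * B) := by
        rw [Matrix.transpose_sub, Matrix.transpose_mul, Matrix.transpose_mul, hDt, hBt, hXt,
          hCt]
        simp only [Matrix.neg_mul, Matrix.mul_neg, neg_neg, Matrix.mul_assoc]
        abel
      have hSdet : (D - C * ⅟A * B).det ≠ 0 := by
        intro h0
        apply hdet
        rw [hKdet, hsch, h0, mul_zero]
      have hlt : Fintype.card {k // ¬ p k} < m := by
        rw [← hc]
        exact Fintype.card_subtype_lt (p := fun k => ¬ p k) (x := i)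
          (fun h => h (Or.inl rfl))
      obtain ⟨μ, hμ⟩ := ih _ hlt {k // ¬ p k} rfl (D - C * ⅟A * B) hSt hSdet
      exact ⟨a * μ, by rw [hKdet, hsch, hAdet, hμ]; ring⟩

theorem main : OrtStmt.Pfaff.{u} := by
  intro F _ h2 n K hK hdet
  exact pfaff_aux h2 n (Fin n) (Fintype.card_fin n) K hK hdet

end Cfsg.Agent.Lib.Helper21.OrtPFAFF
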