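import Mathlib

set_option autoImplicit false

namespace Cfsg.Agent.Lib.Helper21.RSBase

theorem mem_smul_sylow {G : Type*} [Group G] {p : ℕ} (g x : G) (P : Sylow p G) :
    x ∈ ((g • P : Sylow p G) : Subgroup G) ↔ g⁻¹ * x * g ∈ (P : Subgroup G) := by
  rw [Sylow.coe_subgroup_smul, Subgroup.mem_pointwise_smul_iff_inv_smul_mem]
  simp [MulAut.smul_def]

/-- two subgroups of the same order of a cyclic subgroup are equal -/
theorem cyc_unique {G : Type*} [Group G] [Finite G] (A : Subgroup G) (hA : IsCyclic ↥A)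
    (B C : Subgroup G) (hB : B ≤ A) (hC : C ≤ A) (h : Nat.card ↥B = Nat.card ↥C) : B = C := by
  classical
  obtain ⟨d, hd⟩ : ∃ d : ℕ, d = Nat.card ↥B := ⟨_, rfl⟩
  have hd0 : 0 < d := by rw [hd]; exact Nat.card_pos
  obtain ⟨S, hS⟩ : ∃ S : Set G, S = Subtype.val '' {a : ↥A | a ^ d = 1} := ⟨_, rfl⟩
  have hSfin : S.Finite := Set.toFinite S
  have hScard : S.ncard ≤ d := by
    rw [hS, Set.ncard_image_of_injective _ Subtype.val_injective]
    haveI : Fintype ↥A := Fintype.ofFinite ↥A
    have h1 := IsCyclic.card_pow_eq_one_le (α := ↥A) hd0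
    rw [← Set.ncard_coe_finset] at h1
    convert h1 using 2
    ext a
    simp
  have key : ∀ D : Subgroup G, D ≤ A → Nat.card ↥D = d → (D : Set G) = S := by
    intro D hD hDcard
    apply Set.eq_of_subset_of_ncard_le _ _ hSfin
    · intro x hx
      rw [hS]
      refine ⟨⟨x, hD hx⟩, ?_, rfl⟩
      show (⟨x, hD hx⟩ : ↥A) ^ d = 1
      apply Subtype.ext
      show x ^ d = 1
      have h2 : (⟨x, hx⟩ : ↥D) ^ Nat.card ↥D = 1 := pow_card_eq_one'
      rw [hDcard] at h2
      exact congrArg Subtype.val h2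
    · have e : (D : Set G).ncard = Nat.card ↥D := rfl
      rw [e, hDcard]
      exact hScard
  have hBS := key B hB hd.symm
  have hCS := key C hC (by rw [← h, hd])
  exact SetLike.coe_injective (hBS.trans hCS.symm)

end Cfsg.Agent.Lib.Helper21.RSBase
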