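import Mathlib
import Cfsg.Agent.Lib.Helper36.ReeSolvStmt
import Cfsg.Agent.Lib.Helper21.RSBase

set_option autoImplicit false

namespace Cfsg.Agent.Lib.Helper21.RSC3V

open Cfsg.Agent.Lib.Helper36
open Cfsg.Agent.Lib.Helper18.ReeHallStmt
open Cfsg.Agent.Lib.Helper21.RSBase

universe u

theorem main : ReeSolvStmt.C3V.{u} := by
  intro G _ _ hTI hN V x hV hx hcomm
  haveI : Fact (Nat.Prime 3) := ⟨Nat.prime_three⟩
  have hx1 : x ≠ 1 := by
    intro h; rw [h, orderOf_one] at hx; omega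
  have hzp : IsPGroup 3 ↥(Subgroup.zpowers x) := by
    apply IsPGroup.of_card (n := 1)
    rw [Nat.card_zpowers, hx, pow_one]
  obtain ⟨P, hxP⟩ := hzp.exists_le_sylow
  have hxP' : x ∈ (P : Subgroup G) := hxP (Subgroup.mem_zpowers x)
  apply hN P
  rw [← hV]
  apply Subgroup.card_dvd_of_le
  intro v hv
  apply (Sylow.smul_eq_iff_mem_normalizer (g := v) (P := P)).1
  by_contra hne
  have hbot := hTI (v • P) P hne
  apply hx1
  have hmem : x ∈ ((v • P : Sylow 3 G) : Subgroup G) ⊓ (P : Subgroup G) := by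
    refine ⟨?_, hxP'⟩
    show x ∈ ((v • P : Sylow 3 G) : Subgroup G)
    rw [mem_smul_sylow]
    have e : v⁻¹ * x * v = x := by
      rw [mul_assoc, hcomm v hv, ← mul_assoc, inv_mul_cancel, one_mul]
    rw [e]; exact hxP'
  rw [hbot] at hmem
  exact Subgroup.mem_bot.1 hmem

end Cfsg.Agent.Lib.Helper21.RSC3V
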