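import Mathlib
import Cfsg.Agent.Lib.Helper36.ReeSolvStmt
import Cfsg.Agent.Lib.Helper21.RSBase

set_option autoImplicit false

namespace Cfsg.Agent.Lib.Helper21.RSCYCP

open Cfsg.Agent.Lib.Helper36
open Cfsg.Agent.Lib.Helper18.ReeHallStmt
open Cfsg.Agent.Lib.Helper21.RSBase

universe u

theorem main : ReeSolvStmt.CycP.{u} := by
  intro G _ _ p _ M hMc hMp hM1
  have hp : p.Prime := Fact.out
  -- p divides the order of M
  obtain ⟨n, hn⟩ := hMp.exists_card_eq
  have hn0 : n ≠ 0 := by
    intro h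
    rw [h, pow_zero] at hn
    apply hM1
    exact (Subgroup.card_eq_one).1 hn
  have hpdvd : p ∣ Nat.card ↥M := by rw [hn]; exact dvd_pow_self p hn0
  obtain ⟨x, hx⟩ := exists_prime_orderOf_dvd_card' p hpdvd
  have hxG : orderOf (x : G) = p := by rw [Subgroup.orderOf_coe]; exact hx
  have hle : Subgroup.zpowers (x : G) ≤ M := by
    rw [Subgroup.zpowers_le]; exact x.2
  have hcard : Nat.card ↥(Subgroup.zpowers (x : G)) = p := by rw [Nat.card_zpowers, hxG]
  refine ⟨Subgroup.zpowers (x : G), hcard, ?_⟩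
  intro g hg
  rw [Subgroup.mem_normalizer_iff_map_conj_eq] at hg ⊢
  apply cyc_unique M hMc
  · exact (Subgroup.map_mono hle).trans hg.le
  · exact hle
  · exact Subgroup.card_map_of_injective (MulAut.conj g).injective

end Cfsg.Agent.Lib.Helper21.RSCYCP
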