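import Mathlib
import Cfsg.Agent.Lib.Helper36.ReeSolvStmt
import Cfsg.Agent.Lib.Helper21.RSBase

set_option autoImplicit false

namespace Cfsg.Agent.Lib.Helper21.RSODD

open Cfsg.Agent.Lib.Helper36
open Cfsg.Agent.Lib.Helper18.ReeHallStmt
open Cfsg.Agent.Lib.Helper21.RSBase

universe u

theorem main : ReeSolvStmt.OddP.{u} := by
  intro G _ _ p _ hcyc a b hNorm hpa M hM
  have hp : p.Prime := Fact.out
  obtain ⟨A, hAc, hAcard, -, hAnorm⟩ := hNorm
  -- the subgroup of order p of A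
  have hpA : p ∣ Nat.card ↥A := by rw [hAcard]; exact hpa
  obtain ⟨x, hx⟩ := exists_prime_orderOf_dvd_card' p hpA
  have hxG : orderOf (x : G) = p := by rw [Subgroup.orderOf_coe]; exact hx
  obtain ⟨A0, hA0⟩ : ∃ A0 : Subgroup G, A0 = Subgroup.zpowers (x : G) := ⟨_, rfl⟩
  have hA0le : A0 ≤ A := by rw [hA0, Subgroup.zpowers_le]; exact x.2
  have hA0card : Nat.card ↥A0 = p := by rw [hA0, Nat.card_zpowers, hxG]
  have hA0ne : A0 ≠ ⊥ := by
    intro h
    rw [h, Subgroup.card_bot] at hA0card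
    exact hp.one_lt.ne hA0card
  have hNA0 := hAnorm A0 hA0le hA0ne
  -- Sylow subgroups
  have hMp : IsPGroup p ↥M := IsPGroup.of_card (n := 1) (by rw [hM, pow_one])
  have hA0p : IsPGroup p ↥A0 := IsPGroup.of_card (n := 1) (by rw [hA0card, pow_one])
  obtain ⟨P1, hMP1⟩ := hMp.exists_le_sylow
  obtain ⟨P2, hAP2⟩ := hA0p.exists_le_sylow
  obtain ⟨g, hg⟩ := MulAction.exists_smul_eq G P2 P1
  have hmapA0 : A0.map (MulAut.conj g).toMonoidHom ≤ (P1 : Subgroup G) := by
    rintro y ⟨z, hz, rfl⟩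
    rw [← hg]
    show (MulAut.conj g) z ∈ ((g • P2 : Sylow p G) : Subgroup G)
    rw [mem_smul_sylow, MulAut.conj_apply]
    have e : g⁻¹ * (g * z * g⁻¹) * g = z := by group
    rw [e]; exact hAP2 hz
  have hMeq : A0.map (MulAut.conj g).toMonoidHom = M := by
    apply cyc_unique (P1 : Subgroup G) (hcyc P1) _ _ hmapA0 hMP1
    rw [Subgroup.card_map_of_injective (MulAut.conj g).injective, hA0card, hM]
  refine ⟨A.map (MulAut.conj g).toMonoidHom, ?_, ?_, ?_⟩
  · haveI := hAc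
    exact isCyclic_of_surjective ((MulAut.conj g).subgroupMap A)
      ((MulAut.conj g).subgroupMap A).surjective
  · rw [Subgroup.card_map_of_injective (MulAut.conj g).injective, hAcard]
  · rw [← hMeq, ← Subgroup.map_equiv_normalizer_eq, ← Subgroup.map_equiv_normalizer_eq, hNA0]

end Cfsg.Agent.Lib.Helper21.RSODD
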