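import Mathlib
import Cfsg.Agent.Lib.Helper36.ReeSolvStmt
import Cfsg.Agent.Lib.Helper21.RSBase

set_option autoImplicit false

namespace Cfsg.Agent.Lib.Helper21.RSTHREE

open Cfsg.Agent.Lib.Helper36
open Cfsg.Agent.Lib.Helper18.ReeHallStmt
open Cfsg.Agent.Lib.Helper21.RSBase

universe u

theorem main : ReeSolvStmt.ThreeP.{u} := by
  intro G _ _ hTI M hM hM1
  obtain ⟨P, hMP⟩ := hM.exists_le_sylow
  refine ⟨P, ?_⟩
  intro g hg
  apply (Sylow.smul_eq_iff_mem_normalizer (g := g) (P := P)).1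
  by_contra hne
  have hbot := hTI (g • P) P hne
  apply hM1
  rw [eq_bot_iff, ← hbot]
  intro x hx
  refine ⟨?_, hMP hx⟩
  show x ∈ ((g • P : Sylow 3 G) : Subgroup G)
  rw [mem_smul_sylow]
  apply hMP
  have h1 := (Subgroup.mem_normalizer_iff.1 hg (g⁻¹ * x * g))
  have e : g * (g⁻¹ * x * g) * g⁻¹ = x := by group
  rw [e] at h1
  exact h1.2 hx

end Cfsg.Agent.Lib.Helper21.RSTHREE
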