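import Mathlib
import Cfsg.Agent.Lib.Helper45.OMiStmt
import Cfsg.Agent.Lib.Helper41.TMTwoStmt
import Cfsg.Agent.Lib.Helper44.WittND2
import Cfsg.Agent.Lib.Helper44.NegPairs
import Cfsg.Agent.Lib.Helper8.HypHYPSUB

/-!
# Minus-form base lemmas (helper21; ports of my S5973 pieces `TPPERP`, `TPRIMG`, `TPTSHALF`,
`TPSUBPERP`, `TPTSIN` to `Cfsg.quadFormMinus (d - 1) F a₀ b₀` on `M d → F`), for the S5987 call.

All statements take the nondegeneracy of the whole form as the hypothesis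
`hS : Sep (minusQ (d - 1) F a₀ b₀)` (where it is needed), so they hold for every `q`.
-/

set_option autoImplicit false

universe u

open scoped Matrix

namespace Cfsg.Agent.Lib.Helper21.TMBase

open Module QuadraticMap
open Cfsg.Agent.Lib.Helper45.OMiStmt (M Aniso FxM NDegM StabM)
open Cfsg.Agent.Lib.Helper41.TMTwoStmt (TSubM)
open Cfsg.Agent.Lib.Helper44.QSpace Cfsg.Agent.Lib.Helper44.NegPairs Cfsg.Agent.Lib.Helper44.OEmb
open Cfsg.Agent.Lib.Helper44.WittND Cfsg.Agent.Lib.Helper44.WittND2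
open Cfsg.Agent.Lib.Helper8.HypHYPSUB (isom_inj inlMap inlMap_inj plusQ_inlMap)

theorem finrank_M {F : Type u} [Field F] (d : ℕ) (hd : 1 ≤ d) :
    Module.finrank F (M d → F) = 2 * d := by
  rw [Module.finrank_pi]
  simp
  omega

theorem mem_FxM' {F : Type u} [Field F] {d : ℕ} (x : Matrix (M d) (M d) F) (v : M d → F) :
    v ∈ FxM x ↔ x *ᵥ v = v := by
  unfold FxM
  rw [LinearMap.mem_ker, LinearMap.sub_apply, Matrix.toLin'_apply, LinearMap.id_apply, sub_eq_zero]

/-- PERP for the minus form. -/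
theorem perpM {F : Type u} [Field F] [Fintype F] (d : ℕ) (hd : 1 ≤ d) (a₀ b₀ : F)
    (hS : Sep (minusQ (d - 1) F a₀ b₀)) (G : Submodule F (M d → F)) (hG : NDegM d F a₀ b₀ G) :
    ∃ Y : Submodule F (M d → F),
      (∀ g ∈ G, ∀ y ∈ Y, QuadraticMap.polar (Cfsg.quadFormMinus (d - 1) F a₀ b₀) g y = 0) ∧
      NDegM d F a₀ b₀ Y ∧ G ⊓ Y = ⊥ ∧
      Module.finrank F ↥G + Module.finrank F ↥Y = 2 * d ∧
      ∀ x : Matrix.GeneralLinearGroup (M d) F,
        x ∈ Cfsg.isometryGroup F (Cfsg.quadFormMinus (d - 1) F a₀ b₀) →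
        StabM (x : Matrix (M d) (M d) F) G → StabM (x : Matrix (M d) (M d) F) Y := by
  classical
  have hinf : G ⊓ LinearMap.BilinForm.orthogonal (polarBilin (minusQ (d - 1) F a₀ b₀)) G = ⊥ := by
    rw [eq_bot_iff]
    intro v hv
    obtain ⟨hv1, hv2⟩ := Submodule.mem_inf.1 hv
    by_contra hv0
    have hv0' : v ≠ 0 := fun h => hv0 ((Submodule.mem_bot F).2 h)
    obtain ⟨⟨x, hx, hxv⟩, -⟩ := hG v hv1 hv0'
    exact hxv (hv2 x hx)
  refine ⟨LinearMap.BilinForm.orthogonal (polarBilin (minusQ (d - 1) F a₀ b₀)) G, ?_, ?_, hinf, ?_, ?_⟩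
  · intro g hg y hy
    exact hy g hg
  · have hnd := ndsub_orth hS hinf
    intro w hw hw0
    have h1 : ∃ y ∈ LinearMap.BilinForm.orthogonal (polarBilin (minusQ (d - 1) F a₀ b₀)) G,
        polar (minusQ (d - 1) F a₀ b₀) w y ≠ 0 := by
      by_contra hcon
      push Not at hcon
      exact hw0 (hnd w hw hcon)
    obtain ⟨y, hy, hwy⟩ := h1
    refine ⟨⟨y, hy, ?_⟩, ⟨y, hy, hwy⟩⟩
    have h3 : polar (minusQ (d - 1) F a₀ b₀) y w = polar (minusQ (d - 1) F a₀ b₀) w y := polar_comm _ _ _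
    intro h4
    exact hwy (h3 ▸ h4)
  · have h1 : Module.finrank F ↥(LinearMap.BilinForm.orthogonal (polarBilin (minusQ (d - 1) F a₀ b₀)) G)
        = Module.finrank F (M d → F) - Module.finrank F ↥G :=
      LinearMap.BilinForm.finrank_orthogonal (nondegenerate_of_sep hS) G
    have h3 : Module.finrank F (M d → F) = 2 * d := by
      rw [Module.finrank_pi]
      simp
      omega
    have h4 : Module.finrank F ↥G ≤ Module.finrank F (M d → F) := Submodule.finrank_le G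
    rw [h3] at h1 h4
    rw [h1]
    omega
  · intro x hx hst
    have hQ : ∀ u : M d → F, Cfsg.quadFormMinus (d - 1) F a₀ b₀ ((x : Matrix (M d) (M d) F) *ᵥ u)
        = Cfsg.quadFormMinus (d - 1) F a₀ b₀ u := fun u => hx u u
    have hinj : Function.Injective (Matrix.toLin' (x : Matrix (M d) (M d) F)) := by
      intro u v huv
      rw [Matrix.toLin'_apply, Matrix.toLin'_apply] at huv
      have h5 := congrArg (fun z => ((x⁻¹ : Matrix.GeneralLinearGroup (M d) F) :
        Matrix (M d) (M d) F) *ᵥ z) huv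
      simp only [Matrix.mulVec_mulVec] at h5
      have h6 : ((x⁻¹ : Matrix.GeneralLinearGroup (M d) F) : Matrix (M d) (M d) F)
          * (x : Matrix (M d) (M d) F) = 1 := by
        rw [← Units.val_mul, inv_mul_cancel, Units.val_one]
      rw [h6, Matrix.one_mulVec, Matrix.one_mulVec] at h5
      exact h5
    have hmap : G.map (Matrix.toLin' (x : Matrix (M d) (M d) F)) = G := by
      apply Submodule.eq_of_le_of_finrank_le hst
      rw [← (Submodule.equivMapOfInjective _ hinj G).finrank_eq]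
    rintro _ ⟨y, hy, rfl⟩
    intro g hg
    rw [← hmap] at hg
    obtain ⟨g', hg', rfl⟩ := hg
    have h7 : polar (minusQ (d - 1) F a₀ b₀) g' y = 0 := hy g' hg'
    show polar (Cfsg.quadFormMinus (d - 1) F a₀ b₀) (Matrix.toLin' (x : Matrix (M d) (M d) F) g')
      (Matrix.toLin' (x : Matrix (M d) (M d) F) y) = 0
    have h8 : polar (Cfsg.quadFormMinus (d - 1) F a₀ b₀) g' y = 0 := h7
    unfold polar at h8 ⊢
    rw [← map_add, Matrix.toLin'_apply, Matrix.toLin'_apply, Matrix.toLin'_apply, hQ, hQ, hQ]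
    exact h8


/-- RIMG for the minus form. -/
theorem rimgM {F : Type u} [Field F] [Fintype F] (p : ℕ) [Fact p.Prime] [CharP F p]
    (d : ℕ) (r : ℕ) [Fact r.Prime] (hrp : r ≠ p)
    (x : Matrix.GeneralLinearGroup (M d) F) (hxr : x ^ r = 1)
    (W : Submodule F (M d → F)) (hW : StabM (x : Matrix (M d) (M d) F) W) :
    ∃ R : Submodule F (M d → F), R ≤ W ∧ StabM (x : Matrix (M d) (M d) F) R ∧
      R ⊓ FxM (x : Matrix (M d) (M d) F) = ⊥ ∧
      Module.finrank F ↥R + Module.finrank F ↥(W ⊓ FxM (x : Matrix (M d) (M d) F)) =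
        Module.finrank F ↥W ∧
      ∀ v ∈ R, ∃ w ∈ W, v = (x : Matrix (M d) (M d) F) *ᵥ w - w := by
  classical
  obtain ⟨f, hf⟩ : ∃ f : (M d → F) →ₗ[F] (M d → F),
      f = Matrix.toLin' (x : Matrix (M d) (M d) F) - LinearMap.id := ⟨_, rfl⟩
  have hfa : ∀ v, f v = (x : Matrix (M d) (M d) F) *ᵥ v - v := by
    intro v
    rw [hf, LinearMap.sub_apply, Matrix.toLin'_apply, LinearMap.id_apply]
  have hxW : ∀ w ∈ W, (x : Matrix (M d) (M d) F) *ᵥ w ∈ W := by
    intro w hw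
    apply hW
    exact ⟨w, hw, by rw [Matrix.toLin'_apply]⟩
  have hr0 : ((r : ℕ) : F) ≠ 0 := by
    intro h
    have h1 : p ∣ r := (CharP.cast_eq_zero_iff F p r).1 h
    have h2 := (Nat.prime_dvd_prime_iff_eq (Fact.out : p.Prime) (Fact.out : r.Prime)).1 h1
    exact hrp h2.symm
  have hxrM : (x : Matrix (M d) (M d) F) ^ r = 1 := by
    rw [← Units.val_pow_eq_pow_val, hxr, Units.val_one]
  refine ⟨W.map f, ?_, ?_, ?_, ?_, ?_⟩
  · rintro _ ⟨w, hw, rfl⟩
    rw [hfa]
    exact W.sub_mem (hxW w hw) hw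
  · rintro _ ⟨_, ⟨w, hw, rfl⟩, rfl⟩
    refine ⟨(x : Matrix (M d) (M d) F) *ᵥ w, hxW w hw, ?_⟩
    rw [Matrix.toLin'_apply, hfa, hfa, Matrix.mulVec_sub]
  · rw [eq_bot_iff]
    rintro v ⟨⟨w, hw, rfl⟩, hv2⟩
    have hv2' : (x : Matrix (M d) (M d) F) *ᵥ (f w) = f w := (mem_FxM' _ _).1 hv2
    have hk : ∀ k : ℕ, ((x : Matrix (M d) (M d) F) ^ k) *ᵥ w = w + (k : F) • f w := by
      intro k
      induction k with
      | zero => simp
      | succ k ih =>
        rw [pow_succ', ← Matrix.mulVec_mulVec, ih, Matrix.mulVec_add, Matrix.mulVec_smul, hv2']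
        have : (x : Matrix (M d) (M d) F) *ᵥ w = w + f w := by rw [hfa]; abel
        rw [this, Nat.cast_succ, add_smul, one_smul]
        abel
    have h1 := hk r
    rw [hxrM, Matrix.one_mulVec] at h1
    have h2 : (r : F) • f w = 0 := by
      have : w + (r : F) • f w = w + 0 := by rw [add_zero]; exact h1.symm
      exact add_left_cancel this
    rcases smul_eq_zero.1 h2 with h | h
    · exact absurd h hr0
    · exact (Submodule.mem_bot F).2 h
  · have h1 := LinearMap.finrank_range_add_finrank_ker (f.domRestrict W)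
    have h2 : LinearMap.range (f.domRestrict W) = W.map f := by
      ext v
      constructor
      · rintro ⟨w, rfl⟩
        exact ⟨w.1, w.2, rfl⟩
      · rintro ⟨w, hw, rfl⟩
        exact ⟨⟨w, hw⟩, rfl⟩
    have h3 : Module.finrank F ↥(LinearMap.ker (f.domRestrict W)) =
        Module.finrank F ↥(W ⊓ FxM (x : Matrix (M d) (M d) F)) := by
      have h4 : (LinearMap.ker (f.domRestrict W)).map W.subtype =
          W ⊓ FxM (x : Matrix (M d) (M d) F) := by
        ext v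
        constructor
        · rintro ⟨w, hw, rfl⟩
          refine Submodule.mem_inf.mpr ⟨w.2, ?_⟩
          have : f (w : M d → F) = 0 := hw
          unfold FxM
          rw [LinearMap.mem_ker, ← hf]
          exact this
        · intro hv
          obtain ⟨hv1, hv2⟩ := Submodule.mem_inf.1 hv
          refine ⟨⟨v, hv1⟩, ?_, rfl⟩
          unfold FxM at hv2
          rw [LinearMap.mem_ker, ← hf] at hv2
          exact hv2
      rw [← h4]
      exact (Submodule.finrank_map_subtype_eq W _).symm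
    rw [h2, h3] at h1
    exact h1
  · rintro _ ⟨w, hw, rfl⟩
    exact ⟨w, hw, hfa w⟩


/-- TSHALF for the minus form. -/
theorem tsHalfM {F : Type u} [Field F] [Fintype F] (d : ℕ) (a₀ b₀ : F)
    (Y U : Submodule F (M d → F)) (hY : NDegM d F a₀ b₀ Y) (hUY : U ≤ Y)
    (hU : TSubM d F a₀ b₀ U) :
    2 * Module.finrank F ↥U ≤ Module.finrank F ↥Y := by
  classical
  obtain ⟨BY, hBY⟩ : ∃ BY : LinearMap.BilinForm F ↥Y,
      BY = LinearMap.BilinForm.restrict (polarBilin (minusQ (d - 1) F a₀ b₀)) Y := ⟨_, rfl⟩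
  have hBYa : ∀ a b : ↥Y, BY a b = polar (Cfsg.quadFormMinus (d - 1) F a₀ b₀) (a : M d → F) (b : M d → F) := by
    intro a b
    rw [hBY]
    rfl
  have hnd : BY.Nondegenerate := by
    refine ⟨?_, ?_⟩
    · intro a ha
      by_contra ha0
      have ha0' : (a : M d → F) ≠ 0 := fun h => ha0 (Subtype.ext h)
      obtain ⟨-, ⟨y, hy, hay⟩⟩ := hY (a : M d → F) a.2 ha0'
      apply hay
      have := ha ⟨y, hy⟩
      rw [hBYa] at this
      exact this
    · intro a ha
      by_contra ha0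
      have ha0' : (a : M d → F) ≠ 0 := fun h => ha0 (Subtype.ext h)
      obtain ⟨⟨y, hy, hay⟩, -⟩ := hY (a : M d → F) a.2 ha0'
      apply hay
      have := ha ⟨y, hy⟩
      rw [hBYa] at this
      exact this
  obtain ⟨U', hU'⟩ : ∃ U' : Submodule F ↥Y, U' = U.comap Y.subtype := ⟨_, rfl⟩
  have hfr : Module.finrank F ↥U' = Module.finrank F ↥U := by
    rw [hU']
    exact (Submodule.comapSubtypeEquivOfLe hUY).finrank_eq
  have hle : U' ≤ BY.orthogonal U' := by
    intro u hu v hv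
    show BY v u = 0
    rw [hBYa]
    rw [hU'] at hu hv
    have hu1 : (u : M d → F) ∈ U := hu
    have hv1 : (v : M d → F) ∈ U := hv
    unfold polar
    rw [hU _ (U.add_mem hv1 hu1), hU _ hu1, hU _ hv1]
    ring
  have h1 : Module.finrank F ↥(BY.orthogonal U') = Module.finrank F ↥Y - Module.finrank F ↥U' :=
    LinearMap.BilinForm.finrank_orthogonal hnd U'
  have h2 : Module.finrank F ↥U' ≤ Module.finrank F ↥(BY.orthogonal U') :=
    Submodule.finrank_mono hle
  have h3 : Module.finrank F ↥U' ≤ Module.finrank F ↥Y := Submodule.finrank_le U'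
  omega


theorem pol_add_leftM {F : Type u} [Field F] (d : ℕ) (a₀ b₀ : F) (a b c : M d → F) :
    polar (Cfsg.quadFormMinus (d - 1) F a₀ b₀) (a + b) c =
      polar (Cfsg.quadFormMinus (d - 1) F a₀ b₀) a c
        + polar (Cfsg.quadFormMinus (d - 1) F a₀ b₀) b c :=
  QuadraticMap.polar_add_left (minusQ (d - 1) F a₀ b₀) a b c

theorem pol_commM {F : Type u} [Field F] (d : ℕ) (a₀ b₀ : F) (a b : M d → F) :
    polar (Cfsg.quadFormMinus (d - 1) F a₀ b₀) a b
      = polar (Cfsg.quadFormMinus (d - 1) F a₀ b₀) b a :=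
  QuadraticMap.polar_comm _ _ _

/-- SUBPERP for the minus form. -/
theorem subPerpM {F : Type u} [Field F] [Fintype F] (d : ℕ) (hd : 1 ≤ d) (a₀ b₀ : F)
    (hS : Sep (minusQ (d - 1) F a₀ b₀))
    (Y B : Submodule F (M d → F)) (hY : NDegM d F a₀ b₀ Y) (hB : NDegM d F a₀ b₀ B)
    (hBY : B ≤ Y) :
    ∃ Y' : Submodule F (M d → F), Y' ≤ Y ∧ NDegM d F a₀ b₀ Y' ∧ B ⊓ Y' = ⊥ ∧
      (∀ b ∈ B, ∀ y ∈ Y', QuadraticMap.polar (Cfsg.quadFormMinus (d - 1) F a₀ b₀) b y = 0) ∧
      Module.finrank F ↥B + Module.finrank F ↥Y' = Module.finrank F ↥Y ∧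
      ∀ x : Matrix.GeneralLinearGroup (M d) F,
        x ∈ Cfsg.isometryGroup F (Cfsg.quadFormMinus (d - 1) F a₀ b₀) →
        StabM (x : Matrix (M d) (M d) F) Y → StabM (x : Matrix (M d) (M d) F) B →
        StabM (x : Matrix (M d) (M d) F) Y' := by
  classical
  obtain ⟨Z, hZ1, hZ2, hZ3, hZ4, hZ5⟩ := perpM d hd a₀ b₀ hS B hB
  have hVdim : Module.finrank F (M d → F) = 2 * d := finrank_M d hd
  have hsup : B ⊔ Z = ⊤ := by
    apply Submodule.eq_top_of_finrank_eq
    have h := Submodule.finrank_sup_add_finrank_inf_eq B Z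
    rw [hZ3, finrank_bot, add_zero] at h
    rw [h, hZ4, hVdim]
  have hdec : ∀ y ∈ Y, ∃ b ∈ B, ∃ c ∈ Y ⊓ Z, y = b + c := by
    intro y hy
    have hy' : y ∈ B ⊔ Z := by rw [hsup]; exact Submodule.mem_top
    obtain ⟨b, hb, c, hc, rfl⟩ := Submodule.mem_sup.1 hy'
    refine ⟨b, hb, c, Submodule.mem_inf.mpr ⟨?_, hc⟩, rfl⟩
    have : c = (b + c) - b := by abel
    rw [this]
    exact Y.sub_mem hy (hBY hb)
  have hinf : B ⊓ (Y ⊓ Z) = ⊥ := by
    rw [eq_bot_iff]
    intro v hv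
    obtain ⟨hv1, hv2⟩ := Submodule.mem_inf.1 hv
    have : v ∈ B ⊓ Z := Submodule.mem_inf.mpr ⟨hv1, (Submodule.mem_inf.1 hv2).2⟩
    rw [hZ3] at this
    exact this
  refine ⟨Y ⊓ Z, inf_le_left, ?_, hinf, ?_, ?_, ?_⟩
  · intro w hw hw0
    obtain ⟨hwY, hwZ⟩ := Submodule.mem_inf.1 hw
    obtain ⟨⟨y, hy, hyw⟩, -⟩ := hY w hwY hw0
    obtain ⟨b, hb, c, hc, rfl⟩ := hdec y hy
    have h1 : polar (Cfsg.quadFormMinus (d - 1) F a₀ b₀) c w ≠ 0 := by
      rw [pol_add_leftM, hZ1 b hb w hwZ, zero_add] at hyw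
      exact hyw
    refine ⟨⟨c, hc, h1⟩, ⟨c, hc, ?_⟩⟩
    rw [pol_commM]
    exact h1
  · intro b hb y hy
    exact hZ1 b hb y (Submodule.mem_inf.1 hy).2
  · have h := Submodule.finrank_sup_add_finrank_inf_eq B (Y ⊓ Z)
    rw [hinf, finrank_bot, add_zero] at h
    have hs : B ⊔ (Y ⊓ Z) = Y := by
      apply le_antisymm
      · exact sup_le hBY inf_le_left
      · intro y hy
        obtain ⟨b, hb, c, hc, rfl⟩ := hdec y hy
        exact Submodule.add_mem _ (Submodule.mem_sup_left hb) (Submodule.mem_sup_right hc)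
    rw [← h, hs]
  · intro x hx hxY hxB
    have hxZ := hZ5 x hx hxB
    rintro _ ⟨y, hy, rfl⟩
    obtain ⟨hy1, hy2⟩ := Submodule.mem_inf.1 hy
    exact Submodule.mem_inf.mpr ⟨hxY ⟨y, hy1, rfl⟩, hxZ ⟨y, hy2, rfl⟩⟩


theorem ndsub_of_ndegM {F : Type u} [Field F] {d : ℕ} {a₀ b₀ : F} {W : Submodule F (M d → F)}
    (h : NDegM d F a₀ b₀ W) : NDsub (minusQ (d - 1) F a₀ b₀) W := by
  intro x hx hall
  by_contra hx0
  obtain ⟨-, ⟨y, hy, hxy⟩⟩ := h x hx hx0
  exact hxy (hall y hy)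

/-- TSIN for the minus form. -/
theorem tsInM {F : Type u} [Field F] [Fintype F] (d : ℕ) (a₀ b₀ : F)
    (Y : Submodule F (M d → F)) (j : ℕ) (hY : NDegM d F a₀ b₀ Y)
    (hj : 2 * j < Module.finrank F ↥Y) :
    ∃ U : Submodule F (M d → F), U ≤ Y ∧ TSubM d F a₀ b₀ U ∧ Module.finrank F ↥U = j := by
  classical
  have hY' : NDsub (minusQ (d - 1) F a₀ b₀) Y := ndsub_of_ndegM hY
  have hfH : finrank F (Fin j ⊕ Fin j → F) = 2 * j := by
    rw [Module.finrank_fintype_fun_eq_card, Fintype.card_sum, Fintype.card_fin]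
    ring
  obtain ⟨φ, hφ⟩ := exists_embedding j (Fin j ⊕ Fin j → F) (plusQ j F) Y (res (minusQ (d - 1) F a₀ b₀) Y) hfH
    (by rw [hfH]; exact hj) (sep_plusQ j) (sep_res_of_ndsub hY')
  have hinj := isom_inj (sep_plusQ j) φ hφ
  refine ⟨LinearMap.range (Y.subtype ∘ₗ φ ∘ₗ inlMap j), ?_, ?_, ?_⟩
  · rintro _ ⟨a, rfl⟩
    exact (φ (inlMap j a)).2
  · rintro _ ⟨a, rfl⟩
    have h5 := hφ (inlMap j a)
    rw [res_apply, plusQ_inlMap] at h5
    exact h5
  · have hinj2 : Function.Injective (Y.subtype ∘ₗ φ ∘ₗ inlMap j) := by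
      rw [LinearMap.coe_comp, LinearMap.coe_comp]
      exact (Y.subtype_injective.comp hinj).comp (inlMap_inj j)
    rw [LinearMap.finrank_range_of_inj hinj2, Module.finrank_fintype_fun_eq_card,
      Fintype.card_fin]


end Cfsg.Agent.Lib.Helper21.TMBase
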