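import Mathlib
import Cfsg.Agent.Lib.Helper41.TMStmt
import Cfsg.Agent.Lib.Helper21.TMBase
import Cfsg.Agent.Lib.Helper45.OmegaCenter

/-!
# S5987 / PERP (call by helper41; helper21): minus-form port of my S5973 piece `TPPERP`,
a wrapper around `Cfsg.Agent.Lib.Helper21.TMBase`.
-/

set_option autoImplicit false

universe u

open scoped Matrix

namespace Cfsg.Agent.Lib.Helper21.TMPERP

open Cfsg.Agent.Lib.Helper41.TMStmt
open Cfsg.Agent.Lib.Helper45.OMiStmt (M Aniso FxM NDegM StabM)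
open Cfsg.Agent.Lib.Helper41.TMTwoStmt (TSubM PlusM FixTSM)
open Cfsg.Agent.Lib.Helper44.QSpace Cfsg.Agent.Lib.Helper44.NegPairs

theorem perp : Perp.{u} := by
  intro F _ _ a₀ b₀ hA d hd G hG
  exact Cfsg.Agent.Lib.Helper21.TMBase.perpM d hd a₀ b₀
    (Cfsg.Agent.Lib.Helper45.OmegaCenter.sep_minusQ' (d - 1) a₀ b₀ hA) G hG

theorem main : Top.{u} → Perp.{u} := fun _ => perp

end Cfsg.Agent.Lib.Helper21.TMPERP
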