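import Mathlib
import Cfsg.Agent.Lib.Helper41.TMStmt
import Cfsg.Agent.Lib.Helper21.TMBase
import Cfsg.Agent.Lib.Helper45.OmegaCenter

/-!
# S5987 / SUBPERP (call by helper41; helper21): minus-form port of my S5973 piece `TPSUBPERP`,
a wrapper around `Cfsg.Agent.Lib.Helper21.TMBase`.
-/

set_option autoImplicit false

universe u

open scoped Matrix

namespace Cfsg.Agent.Lib.Helper21.TMSUBPERP

open Cfsg.Agent.Lib.Helper41.TMStmt
open Cfsg.Agent.Lib.Helper45.OMiStmt (M Aniso FxM NDegM StabM)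
open Cfsg.Agent.Lib.Helper41.TMTwoStmt (TSubM PlusM FixTSM)
open Cfsg.Agent.Lib.Helper44.QSpace Cfsg.Agent.Lib.Helper44.NegPairs

theorem main : SubPerp.{u} := by
  intro F _ _ a₀ b₀ hA d Y B hY hB hBY
  rcases Nat.eq_zero_or_pos d with rfl | hd
  · exact Cfsg.Agent.Lib.Helper21.TMBase.subPerpM (F := F) 1 le_rfl a₀ b₀
      (Cfsg.Agent.Lib.Helper45.OmegaCenter.sep_minusQ' 0 a₀ b₀ hA) Y B hY hB hBY
  · exact Cfsg.Agent.Lib.Helper21.TMBase.subPerpM d hd a₀ b₀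
      (Cfsg.Agent.Lib.Helper45.OmegaCenter.sep_minusQ' (d - 1) a₀ b₀ hA) Y B hY hB hBY

end Cfsg.Agent.Lib.Helper21.TMSUBPERP
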